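import Cfsg.Agent.InvNorm.Hermitian
import Cfsg.Prelude.Def_GeometricClasses
import Mathlib

/-!
# Characteristic polynomials of matrices of degree four with `x^r` scalar, `r = 2, 3, 5`

The multiset of eigenvalues is determined by the trace when it is closed under the relevant Galois map.
-/

set_option autoImplicit false
set_option linter.unusedSectionVars false

namespace CfsgLib.SympFour

open Matrix Polynomial

variable {ι : Type} [Fintype ι] [DecidableEq ι] {F : Type*} [Field F]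

local notation "L" => AlgebraicClosure F
local notation "φ" => algebraMap F (AlgebraicClosure F)

/-- The eigenvalues in an algebraic closure. -/
noncomputable def eigs (x : Matrix ι ι F) : Multiset L := (x.charpoly.map φ).roots

theorem eigs_eq (x : Matrix ι ι F) : eigs x = (x.map φ).charpoly.roots := by
  rw [eigs, Matrix.charpoly_map]

theorem charpoly_eq_of_eigs {x y : Matrix ι ι F} (h : eigs x = eigs y) : x.charpoly = y.charpoly := by
  refine Polynomial.map_injective φ (FaithfulSMul.algebraMap_injective F L) ?_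
  rw [(IsAlgClosed.splits (x.charpoly.map φ)).eq_prod_roots_of_monic (x.charpoly_monic.map φ),
    (IsAlgClosed.splits (y.charpoly.map φ)).eq_prod_roots_of_monic (y.charpoly_monic.map φ)]
  simp only [eigs] at h
  rw [h]

theorem card_eigs (x : Matrix ι ι F) : Multiset.card (eigs x) = Fintype.card ι := by
  rw [eigs, ← (IsAlgClosed.splits (x.charpoly.map φ)).natDegree_eq_card_roots, Polynomial.natDegree_map,
    Matrix.charpoly_natDegree_eq_dim]

theorem sum_eigs (x : Matrix ι ι F) : (eigs x).sum = φ x.trace := by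
  rw [eigs_eq, ← Matrix.trace_eq_sum_roots_charpoly, AddMonoidHom.map_trace]

theorem prod_eigs (x : Matrix ι ι F) : (eigs x).prod = φ x.det := by
  rw [eigs_eq, ← Matrix.det_eq_prod_roots_charpoly, RingHom.map_det, RingHom.mapMatrix_apply]

theorem mem_eigs {x : Matrix ι ι F} {a : L} : a ∈ eigs x ↔ (x.charpoly.map φ).IsRoot a :=
  Polynomial.mem_roots (x.charpoly_monic.map φ).ne_zero

theorem exists_eigvec {x : Matrix ι ι F} {a : L} (ha : a ∈ eigs x) :
    ∃ v : ι → L, v ≠ 0 ∧ x.map φ *ᵥ v = a • v := by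
  rw [mem_eigs, ← Matrix.charpoly_map, Polynomial.IsRoot, Matrix.eval_charpoly] at ha
  obtain ⟨v, hv0, hv⟩ := Matrix.exists_mulVec_eq_zero_iff.mpr ha
  refine ⟨v, hv0, ?_⟩
  rw [Matrix.sub_mulVec, sub_eq_zero, Matrix.scalar_apply, ← Matrix.smul_one_eq_diagonal, Matrix.smul_mulVec,
    Matrix.one_mulVec] at hv
  exact hv.symm

theorem pow_mulVec_eigvec {A : Matrix ι ι L} {a : L} {v : ι → L} (hv : A *ᵥ v = a • v) :
    ∀ k : ℕ, (A ^ k) *ᵥ v = a ^ k • v := by
  intro k
  induction k with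
  | zero => simp
  | succ k ih => rw [pow_succ, ← Matrix.mulVec_mulVec, hv, Matrix.mulVec_smul, ih, smul_smul, ← pow_succ']

theorem eigs_pow_eq {x : Matrix ι ι F} {r : ℕ} {z : F} (hz : x ^ r = z • 1) {a : L} (ha : a ∈ eigs x) :
    a ^ r = φ z := by
  obtain ⟨v, hv0, hv⟩ := exists_eigvec ha
  have e := pow_mulVec_eigvec hv r
  rw [← Matrix.map_pow, hz] at e
  rw [show (z • (1 : Matrix ι ι F)).map φ = φ z • (1 : Matrix ι ι L) by
    ext i j; by_cases h : i = j <;> simp [h], Matrix.smul_mulVec, Matrix.one_mulVec] at e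
  obtain ⟨i, hi⟩ := Function.ne_iff.mp hv0
  have := congrFun e i
  simp only [Pi.smul_apply, smul_eq_mul] at this
  exact (mul_right_cancel₀ hi this).symm

/-- With all eigenvalues equal, a matrix with a scalar power prime to the characteristic is scalar. -/
theorem scalar_of_eigs [Nonempty ι] {x : Matrix ι ι F} {r : ℕ} (hr : (r : F) ≠ 0) {z : F} (hz0 : z ≠ 0)
    (hz : x ^ r = z • 1) {a : L} (ha : ∀ b ∈ eigs x, b = a) : ∃ c : F, x = c • 1 := by
  classical
  set A := x.map φ with hA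
  have hA' : A ^ r = φ z • (1 : Matrix ι ι L) := by
    rw [hA, ← Matrix.map_pow, hz]
    ext i j; by_cases h : i = j <;> simp [h]
  have h1 : minpoly L A ∣ X ^ r - C (φ z) := minpoly.dvd L A (by
    rw [map_sub, map_pow, Polynomial.aeval_X, Polynomial.aeval_C, hA', Algebra.algebraMap_eq_smul_one (A := Matrix ι ι L), sub_self])
  have h2 : minpoly L A ∣ (X - C a) ^ Fintype.card ι := by
    refine (Matrix.minpoly_dvd_charpoly A).trans (dvd_of_eq ?_)
    rw [(IsAlgClosed.splits A.charpoly).eq_prod_roots_of_monic A.charpoly_monic]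
    have hroots : A.charpoly.roots = Multiset.replicate (Fintype.card ι) a := by
      rw [hA, ← eigs_eq, Multiset.eq_replicate]
      exact ⟨card_eigs x, ha⟩
    rw [hroots, Multiset.map_replicate, Multiset.prod_replicate]
  have hsep : (X ^ r - C (φ z)).Separable :=
    Polynomial.separable_X_pow_sub_C _ (by rw [← map_natCast φ]; exact (map_ne_zero φ).mpr hr) ((map_ne_zero φ).mpr hz0)
  have hsq : Squarefree (minpoly L A) := (hsep.squarefree).squarefree_of_dvd h1
  have h3 : minpoly L A ∣ X - C a := (hsq.dvd_pow_iff_dvd Fintype.card_pos.ne').mp h2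
  obtain ⟨Q, hQ⟩ := h3
  have e : A - algebraMap L (Matrix ι ι L) a = 0 := by
    have := congrArg (Polynomial.aeval A) hQ
    rwa [map_mul, minpoly.aeval, zero_mul, map_sub, Polynomial.aeval_X, Polynomial.aeval_C] at this
  rw [sub_eq_zero] at e
  obtain ⟨i₀⟩ := (inferInstance : Nonempty ι)
  refine ⟨x i₀ i₀, ?_⟩
  ext i j
  apply FaithfulSMul.algebraMap_injective F L
  have e1 := congrFun (congrFun e i) j
  have e0 := congrFun (congrFun e i₀) i₀
  rw [Algebra.algebraMap_eq_smul_one] at e1 e0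
  simp only [hA, Matrix.map_apply] at e1 e0
  by_cases h : i = j
  · subst h
    simp at e1 e0
    simp [e1, e0]
  · simp [h] at e1
    simp [h, e1]

/-- Closure of the eigenvalues under `a ↦ a ^ |F|`. -/
theorem eigs_pow_card [Fintype F] {x : Matrix ι ι F} {a : L} (ha : a ∈ eigs x) : a ^ Fintype.card F ∈ eigs x := by
  rw [mem_eigs, Polynomial.IsRoot, Polynomial.eval_map] at ha ⊢
  rw [← Polynomial.aeval_def] at ha ⊢
  rw [← Polynomial.expand_aeval, FiniteField.expand_card, map_pow, ha, zero_pow Fintype.card_ne_zero]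

/-- Closure of the eigenvalues of a unitary matrix under `a ↦ (a ^ p)⁻¹`. -/
theorem eigs_pow_inv [Fintype F] {p : ℕ} [Fact p.Prime] [CharP F p] (hF : Fintype.card F = p ^ 2) {n : ℕ}
    {x : GL (Fin n) F} (hx : x ∈ Cfsg.GU n F p) {a : L} (ha : a ∈ eigs (x : Matrix (Fin n) (Fin n) F)) :
    (a⁻¹) ^ p ∈ eigs (x : Matrix (Fin n) (Fin n) F) := by
  haveI : CharP L p := charP_of_injective_algebraMap (FaithfulSMul.algebraMap_injective F L) p
  obtain ⟨σ, hσ, hσσ⟩ := CfsgLib.FieldEmb.exists_conj hF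
  have htau := (CfsgLib.InvNorm.mem_GU_iff hσ hσσ x).1 hx
  obtain ⟨v, hv0, hv⟩ := exists_eigvec ha
  set T := CfsgLib.InvNorm.tau σ (x : Matrix (Fin n) (Fin n) F) with hT
  have e : T.map φ *ᵥ (a • v) = v := by
    rw [← hv, Matrix.mulVec_mulVec, ← Matrix.map_mul, htau, Matrix.map_one φ (map_zero φ) (map_one φ), Matrix.one_mulVec]
  have ha0 : a ≠ 0 := fun h0 => hv0 (by rw [← e, h0, zero_smul, Matrix.mulVec_zero])
  have hev : T.map φ *ᵥ v = a⁻¹ • v := by
    rw [Matrix.mulVec_smul] at e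
    conv_rhs => rw [← e, smul_smul, inv_mul_cancel₀ ha0, one_smul]
  have hroot : (T.map φ).charpoly.IsRoot a⁻¹ := by
    rw [Polynomial.IsRoot, Matrix.eval_charpoly]
    refine Matrix.exists_mulVec_eq_zero_iff.mp ⟨v, hv0, ?_⟩
    rw [Matrix.sub_mulVec, Matrix.scalar_apply, ← Matrix.smul_one_eq_diagonal, Matrix.smul_mulVec, Matrix.one_mulVec,
      hev, sub_self]
  rw [hT, CfsgLib.InvNorm.tau, Matrix.transpose_map, Matrix.charpoly_transpose, Matrix.charpoly_map,
    Matrix.charpoly_map, Polynomial.map_map, Polynomial.IsRoot, Polynomial.eval_map] at hroot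
  rw [mem_eigs, Polynomial.IsRoot, Polynomial.eval_map]
  have hfr : (frobenius L p).comp ((φ).comp σ) = φ := by
    refine RingHom.ext fun c => ?_
    rw [RingHom.comp_apply, RingHom.comp_apply, frobenius_def, ← map_pow, ← hσ, hσσ]
  have e2 := congrArg (frobenius L p) hroot
  rw [Polynomial.hom_eval₂, hfr, map_zero, frobenius_def] at e2
  exact e2

theorem multiset_count_eq {α : Type*} [DecidableEq α] {s : Multiset α} {a b : α} (hab : a ≠ b)
    (h : ∀ c ∈ s, c = a ∨ c = b) :
    s = Multiset.replicate (s.count a) a + Multiset.replicate (s.count b) b := by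
  ext c
  rw [Multiset.count_add, Multiset.count_replicate, Multiset.count_replicate]
  by_cases h1 : a = c
  · subst h1; simp [hab.symm]
  · by_cases h2 : b = c
    · subst h2; simp [h1]
    · rw [if_neg h1, if_neg h2, Multiset.count_eq_zero.mpr fun hm => (h c hm).elim (Ne.symm h1) (Ne.symm h2)]

/-- The possible spectra of a non-scalar square root of a scalar. -/
theorem two_spec (h2 : (2 : F) ≠ 0) (h4 : Fintype.card ι = 4) {x : Matrix ι ι F} {z : F} (hz0 : z ≠ 0)
    (hz : x * x = z • 1) (hns : ∀ c : F, x ≠ c • 1) :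
    (x.trace = 0 ∧ x.det = z * z ∧ ∃ m : L, m * m = φ z ∧ eigs x = {m, m, -m, -m}) ∨
    ∃ μ : F, μ * μ = z ∧ μ ≠ 0 ∧ x.trace = 2 * μ ∧ x.det = -(z * z) ∧ eigs x = {φ μ, φ μ, φ μ, -φ μ} := by
  classical
  haveI : Nonempty ι := Fintype.card_pos_iff.mp (by rw [h4]; norm_num)
  have h2' : (2 : L) ≠ 0 := by rw [← map_ofNat φ 2]; exact (map_ne_zero φ).mpr h2
  obtain ⟨m, hm⟩ := IsAlgClosed.exists_eq_mul_self (φ z)
  have hm0 : m ≠ 0 := fun e => hz0 ((map_eq_zero φ).mp (by rw [hm, e, mul_zero]))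
  have hne : m ≠ -m := fun e => hm0 ((mul_eq_zero.mp (show (2 : L) * m = 0 by linear_combination e)).resolve_left h2')
  have hzp : x ^ 2 = z • 1 := by rw [pow_two, hz]
  have hmem : ∀ c ∈ eigs x, c = m ∨ c = -m := fun c hc => by
    have := eigs_pow_eq hzp hc
    rw [pow_two, hm] at this
    exact mul_self_eq_mul_self_iff.mp this
  have hns' : ∀ e : L, ¬ ∀ c ∈ eigs x, c = e := fun e he => by
    obtain ⟨c, hc⟩ := scalar_of_eigs (r := 2) (by exact_mod_cast h2) hz0 hzp he
    exact hns c hc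
  have heq := multiset_count_eq hne hmem
  have hc := card_eigs x
  rw [h4, heq, Multiset.card_add, Multiset.card_replicate, Multiset.card_replicate] at hc
  have hs := sum_eigs x
  have hp := prod_eigs x
  have finj := FaithfulSMul.algebraMap_injective F L
  have hn0 : (eigs x).count m ≠ 0 := fun e => hns' (-m) fun c hc' =>
    (hmem c hc').resolve_left fun he => Multiset.count_eq_zero.mp e (he ▸ hc')
  have hn4 : (eigs x).count (-m) ≠ 0 := fun e => hns' m fun c hc' =>
    (hmem c hc').resolve_right fun he => Multiset.count_eq_zero.mp e (he ▸ hc')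
  generalize hn : (eigs x).count m = n at *
  generalize hk : (eigs x).count (-m) = k at *
  rw [heq] at hs hp
  simp only [Multiset.sum_add, Multiset.sum_replicate, Multiset.prod_add, Multiset.prod_replicate, nsmul_eq_mul] at hs hp
  have hmF : ∀ (s : L), s = m ∨ s = -m → φ x.trace = 2 * s → φ (x.trace / 2) = s := fun s _ e => by
    rw [map_div₀, map_ofNat, e, mul_div_cancel_left₀ _ h2']
  obtain rfl | rfl | rfl : n = 1 ∨ n = 2 ∨ n = 3 := by omega
  · obtain rfl : k = 3 := by omega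
    norm_num at hs hp
    have hμ := hmF (-m) (Or.inr rfl) (by linear_combination -hs)
    refine Or.inr ⟨x.trace / 2, finj ?_, ?_, by field_simp, finj ?_, ?_⟩
    · rw [map_mul, hμ, hm]; ring
    · intro e; rw [e, map_zero] at hμ; exact hm0 (by linear_combination hμ)
    · rw [← hp, map_neg, map_mul, hm]; ring
    · rw [hμ, heq]
      simp [Multiset.insert_eq_cons, Multiset.replicate_succ, Multiset.singleton_add]
      exact Multiset.ext.mpr fun c => by simp only [Multiset.count_cons, Multiset.count_singleton]; ring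
  · obtain rfl : k = 2 := by omega
    norm_num at hs hp
    refine Or.inl ⟨finj ?_, finj ?_, m, hm.symm, ?_⟩
    · rw [← hs, map_zero]
    · rw [← hp, map_mul, hm]; ring
    · rw [heq]
      simp [Multiset.insert_eq_cons, Multiset.replicate_succ, Multiset.cons_swap, Multiset.singleton_add]
  · obtain rfl : k = 1 := by omega
    norm_num at hs hp
    have hμ := hmF m (Or.inl rfl) (by linear_combination -hs)
    refine Or.inr ⟨x.trace / 2, finj ?_, ?_, by field_simp, finj ?_, ?_⟩
    · rw [map_mul, hμ, hm]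
    · intro e; rw [e, map_zero] at hμ; exact hm0 hμ.symm
    · rw [← hp, map_neg, map_mul, hm]; ring
    · rw [hμ, heq]
      simp [Multiset.insert_eq_cons, Multiset.replicate_succ, Multiset.cons_swap, Multiset.singleton_add]

theorem charpoly_eq_two (h2 : (2 : F) ≠ 0) (h4 : Fintype.card ι = 4) {x y : Matrix ι ι F} {z : F} (hz0 : z ≠ 0)
    (hx : x * x = z • 1) (hy : y * y = z • 1) (hxn : ∀ c : F, x ≠ c • 1) (hyn : ∀ c : F, y ≠ c • 1)
    (htr : x.trace = y.trace) : x.charpoly = y.charpoly := by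
  classical
  refine charpoly_eq_of_eigs ?_
  rcases two_spec h2 h4 hz0 hx hxn with ⟨t, -, m, hm, e⟩ | ⟨μ, hμ, hμ0, t, -, e⟩ <;>
    rcases two_spec h2 h4 hz0 hy hyn with ⟨t', -, m', hm', e'⟩ | ⟨μ', hμ', hμ0', t', -, e'⟩
  · rw [e, e']
    rcases mul_self_eq_mul_self_iff.mp (hm.trans hm'.symm) with rfl | rfl
    · rfl
    · simp only [neg_neg, Multiset.insert_eq_cons]
      exact Multiset.ext.mpr fun c => by simp only [Multiset.count_cons, Multiset.count_singleton]; ring
  · exact absurd (by rw [← t', ← htr, t] : 2 * μ' = 0) (mul_ne_zero h2 hμ0')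
  · exact absurd (by rw [← t, htr, t'] : 2 * μ = 0) (mul_ne_zero h2 hμ0)
  · rw [e, e', show μ = μ' from mul_left_cancel₀ h2 (by rw [← t, htr, t'])]

/-- The possible spectra of an element of order three with determinant one and eigenvalues closed under squaring. -/
theorem three_spec (h3 : (3 : F) ≠ 0) (h4 : Fintype.card ι = 4) {x : Matrix ι ι F} (hx : x ^ 3 = 1) (hd : x.det = 1)
    (hns : ∀ c : F, x ≠ c • 1) (hcl : ∀ a ∈ eigs x, a ^ 2 ∈ eigs x) :
    ∃ w : L, w ^ 2 + w + 1 = 0 ∧ ((x.trace = 1 ∧ eigs x = {1, 1, w, w ^ 2}) ∨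
      (x.trace = -2 ∧ eigs x = {w, w, w ^ 2, w ^ 2})) := by
  classical
  haveI : Nonempty ι := Fintype.card_pos_iff.mp (by rw [h4]; norm_num)
  have finj := FaithfulSMul.algebraMap_injective F L
  have h3' : (3 : L) ≠ 0 := by rw [← map_ofNat φ 3]; exact (map_ne_zero φ).mpr h3
  have hz : x ^ 3 = (1 : F) • 1 := by rw [hx, one_smul]
  have hmem3 : ∀ a ∈ eigs x, a ^ 3 = 1 := fun a ha => by rw [eigs_pow_eq hz ha, map_one]
  obtain ⟨w, hw, hw1⟩ : ∃ w ∈ eigs x, w ≠ 1 := by
    by_contra hn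
    push Not at hn
    obtain ⟨c, hc⟩ := scalar_of_eigs (r := 3) (by exact_mod_cast h3) one_ne_zero hz hn
    exact hns c hc
  have hw0 : w ^ 2 + w + 1 = 0 := by
    have := hmem3 w hw
    exact (mul_eq_zero.mp (show (w - 1) * (w ^ 2 + w + 1) = 0 by linear_combination this)).resolve_left
      (sub_ne_zero.mpr hw1)
  have hwn : w ≠ 0 := fun e => by rw [e] at hw0; simp at hw0
  have hww : w ≠ w ^ 2 := fun e => hw1 (mul_left_cancel₀ hwn (by linear_combination -e))
  have h1w2 : w ^ 2 ≠ 1 := fun e => hw1 (by linear_combination hmem3 w hw - w * e)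
  have hmem : ∀ a ∈ eigs x, a = 1 ∨ a = w ∨ a = w ^ 2 := by
    intro a ha
    have h0 : (a - 1) * ((a - w) * (a - w ^ 2)) = 0 := by
      linear_combination hmem3 a ha - a ^ 2 * hw0 + a * (w * hw0) - hmem3 w hw + a * hw0 - a * hw0
    rcases mul_eq_zero.mp h0 with e | e
    · exact Or.inl (sub_eq_zero.mp e)
    rcases mul_eq_zero.mp e with e | e
    · exact Or.inr (Or.inl (sub_eq_zero.mp e))
    · exact Or.inr (Or.inr (sub_eq_zero.mp e))
  have heq : eigs x = Multiset.replicate ((eigs x).count 1) 1 + Multiset.replicate ((eigs x).count w) w +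
      Multiset.replicate ((eigs x).count (w ^ 2)) (w ^ 2) := by
    ext c
    rw [Multiset.count_add, Multiset.count_add, Multiset.count_replicate, Multiset.count_replicate,
      Multiset.count_replicate]
    by_cases e1 : (1 : L) = c
    · subst e1; simp [hw1, h1w2]
    by_cases e2 : w = c
    · subst e2; simp [Ne.symm hw1, hww.symm]
    by_cases e3 : w ^ 2 = c
    · subst e3; simp [Ne.symm h1w2, hww]
    rw [if_neg e1, if_neg e2, if_neg e3, Multiset.count_eq_zero.mpr fun hm =>
      (hmem c hm).elim (Ne.symm e1) (fun h => h.elim (Ne.symm e2) (Ne.symm e3))]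
  have hc := card_eigs x
  have hs := sum_eigs x
  have hp := prod_eigs x
  have hb : 1 ≤ (eigs x).count w := Multiset.one_le_count_iff_mem.mpr hw
  have hc2 : 1 ≤ (eigs x).count (w ^ 2) := Multiset.one_le_count_iff_mem.mpr (hcl w hw)
  generalize hA : (eigs x).count 1 = A at *
  generalize hB : (eigs x).count w = B at *
  generalize hC : (eigs x).count (w ^ 2) = C at *
  rw [h4, heq, Multiset.card_add, Multiset.card_add, Multiset.card_replicate, Multiset.card_replicate,
    Multiset.card_replicate] at hc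
  rw [heq] at hs hp
  simp only [Multiset.sum_add, Multiset.sum_replicate, Multiset.prod_add, Multiset.prod_replicate, nsmul_eq_mul] at hs hp
  rw [hd, map_one] at hp
  have w3 := hmem3 w hw
  refine ⟨w, hw0, ?_⟩
  obtain ⟨rfl, rfl, rfl⟩ | ⟨rfl, rfl, rfl⟩ | ⟨rfl, rfl, rfl⟩ | ⟨rfl, rfl, rfl⟩ | ⟨rfl, rfl, rfl⟩ | ⟨rfl, rfl, rfl⟩ :
      (A = 2 ∧ B = 1 ∧ C = 1) ∨ (A = 0 ∧ B = 2 ∧ C = 2) ∨ (A = 1 ∧ B = 2 ∧ C = 1) ∨ (A = 1 ∧ B = 1 ∧ C = 2) ∨
        (A = 0 ∧ B = 3 ∧ C = 1) ∨ (A = 0 ∧ B = 1 ∧ C = 3) := by omega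
  · norm_num at hs
    refine Or.inl ⟨finj ?_, ?_⟩
    · rw [← hs, map_one]; linear_combination hw0
    · rw [heq]; simp [Multiset.insert_eq_cons, Multiset.replicate_succ, Multiset.singleton_add, Multiset.cons_swap]
  · norm_num at hs
    refine Or.inr ⟨finj ?_, ?_⟩
    · rw [← hs, map_neg, map_ofNat]; linear_combination 2 * hw0
    · rw [heq]; simp [Multiset.insert_eq_cons, Multiset.replicate_succ, Multiset.singleton_add, Multiset.cons_swap]
  all_goals exfalso; norm_num at hp
  · exact hw1 (by linear_combination hp - w * w3)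
  · exact h1w2 (by linear_combination hp - (w ^ 2) * w3)
  · exact h1w2 (by linear_combination hp - (w ^ 2) * w3)
  · exact hw1 (by linear_combination hp - (w ^ 4 + w) * w3)

theorem charpoly_eq_three (h3 : (3 : F) ≠ 0) (h4 : Fintype.card ι = 4) {x y : Matrix ι ι F}
    (hx : x ^ 3 = 1) (hy : y ^ 3 = 1) (hxd : x.det = 1) (hyd : y.det = 1)
    (hxn : ∀ c : F, x ≠ c • 1) (hyn : ∀ c : F, y ≠ c • 1)
    (hxc : ∀ a ∈ eigs x, a ^ 2 ∈ eigs x) (hyc : ∀ a ∈ eigs y, a ^ 2 ∈ eigs y)
    (htr : x.trace = y.trace) : x.charpoly = y.charpoly := by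
  classical
  refine charpoly_eq_of_eigs ?_
  obtain ⟨w, hw, e⟩ := three_spec h3 h4 hx hxd hxn hxc
  obtain ⟨v, hv, e'⟩ := three_spec h3 h4 hy hyd hyn hyc
  have hvw : v = w ∨ v = w ^ 2 := by
    have h0 : (v - w) * (v - w ^ 2) = 0 := by linear_combination hv + (w - 1 - v) * hw
    exact (mul_eq_zero.mp h0).imp sub_eq_zero.mp sub_eq_zero.mp
  have h12 : (1 : F) ≠ -2 := fun e => h3 (by linear_combination e)
  have hw4 : (w ^ 2) ^ 2 = w := by linear_combination (w ^ 2 - w) * hw
  rcases e with ⟨t, e⟩ | ⟨t, e⟩ <;> rcases e' with ⟨t', e'⟩ | ⟨t', e'⟩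
  · rw [e, e']
    rcases hvw with rfl | rfl
    · rfl
    · rw [hw4]; simp only [Multiset.insert_eq_cons]
      exact Multiset.ext.mpr fun c => by simp only [Multiset.count_cons, Multiset.count_singleton]; ring
  · exact absurd (by rw [← t, htr, t']) h12
  · exact absurd (by rw [← t', ← htr, t]) h12
  · rw [e, e']
    rcases hvw with rfl | rfl
    · rfl
    · rw [hw4]; simp only [Multiset.insert_eq_cons]
      exact Multiset.ext.mpr fun c => by simp only [Multiset.count_cons, Multiset.count_singleton]; ring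

/-- The spectrum of an element of order five with eigenvalues closed under squaring. -/
theorem five_spec (h5 : (5 : F) ≠ 0) (h4 : Fintype.card ι = 4) {x : Matrix ι ι F} (hx : x ^ 5 = 1)
    (hns : ∀ c : F, x ≠ c • 1) (hcl : ∀ a ∈ eigs x, a ^ 2 ∈ eigs x) {b : L} (hb : b ^ 5 = 1) (hb1 : b ≠ 1) :
    eigs x = {b, b ^ 2, b ^ 3, b ^ 4} := by
  classical
  haveI : Nonempty ι := Fintype.card_pos_iff.mp (by rw [h4]; norm_num)
  have hz : x ^ 5 = (1 : F) • 1 := by rw [hx, one_smul]
  obtain ⟨a, ha, ha1⟩ : ∃ a ∈ eigs x, a ≠ 1 := by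
    by_contra hn
    push Not at hn
    obtain ⟨c, hc⟩ := scalar_of_eigs (r := 5) (by exact_mod_cast h5) one_ne_zero hz hn
    exact hns c hc
  have ha5 : a ^ 5 = 1 := by rw [eigs_pow_eq hz ha, map_one]
  haveI : Fact (Nat.Prime 5) := ⟨Nat.prime_five⟩
  have hprim : IsPrimitiveRoot a 5 := orderOf_eq_prime ha5 ha1 ▸ IsPrimitiveRoot.orderOf a
  obtain ⟨j, hj, rfl⟩ := hprim.eq_pow_of_pow_eq_one hb
  have hs2 := hcl a ha
  have hs4 := hcl _ hs2
  have hs3 := hcl _ hs4
  rw [← pow_mul] at hs4 hs3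
  rw [← pow_mul, show 2 * 2 * 2 = 5 + 3 by norm_num, pow_add, ha5, one_mul] at hs3
  have hnd : ({a, a ^ 2, a ^ 3, a ^ 4} : Multiset L).Nodup := by
    have inj := hprim.pow_inj
    have n12 : a ≠ a ^ 2 := fun e => absurd (inj (i := 1) (j := 2) (by norm_num) (by norm_num) (by rw [pow_one]; exact e)) (by norm_num)
    have n13 : a ≠ a ^ 3 := fun e => absurd (inj (i := 1) (j := 3) (by norm_num) (by norm_num) (by rw [pow_one]; exact e)) (by norm_num)
    have n14 : a ≠ a ^ 4 := fun e => absurd (inj (i := 1) (j := 4) (by norm_num) (by norm_num) (by rw [pow_one]; exact e)) (by norm_num)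
    have n23 : a ^ 2 ≠ a ^ 3 := fun e => absurd (inj (by norm_num) (by norm_num) e) (by norm_num)
    have n24 : a ^ 2 ≠ a ^ 4 := fun e => absurd (inj (by norm_num) (by norm_num) e) (by norm_num)
    have n34 : a ^ 3 ≠ a ^ 4 := fun e => absurd (inj (by norm_num) (by norm_num) e) (by norm_num)
    simp [Multiset.insert_eq_cons, n12, n13, n14, n23, n24, n34]
  have heq : ({a, a ^ 2, a ^ 3, a ^ 4} : Multiset L) = eigs x := by
    refine Multiset.eq_of_le_of_card_le ((Multiset.le_iff_subset hnd).mpr ?_) (by rw [card_eigs, h4]; simp)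
    intro c hc
    simp only [Multiset.insert_eq_cons, Multiset.mem_cons, Multiset.mem_singleton] at hc
    rcases hc with rfl | rfl | rfl | rfl
    exacts [ha, hs2, hs3, hs4]
  rw [← heq]
  have hj0 : j ≠ 0 := fun e => hb1 (by rw [e, pow_zero])
  have red : ∀ k : ℕ, a ^ k = a ^ (k % 5) := fun k => by
    conv_lhs => rw [← Nat.div_add_mod k 5, pow_add, pow_mul, ha5, one_pow, one_mul]
  interval_cases j
  · omega
  · simp
  all_goals
    simp only [← pow_mul, Nat.reduceMul]
    simp only [red 6, red 8, red 9, red 12, red 16, Nat.reduceMod, pow_one]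
    simp only [Multiset.insert_eq_cons]
    exact Multiset.ext.mpr fun c => by simp only [Multiset.count_cons, Multiset.count_singleton]; ring

theorem charpoly_eq_five (h5 : (5 : F) ≠ 0) (h4 : Fintype.card ι = 4) {x y : Matrix ι ι F}
    (hx : x ^ 5 = 1) (hy : y ^ 5 = 1) (hxn : ∀ c : F, x ≠ c • 1) (hyn : ∀ c : F, y ≠ c • 1)
    (hxc : ∀ a ∈ eigs x, a ^ 2 ∈ eigs x) (hyc : ∀ a ∈ eigs y, a ^ 2 ∈ eigs y) : x.charpoly = y.charpoly := by
  refine charpoly_eq_of_eigs ?_
  obtain ⟨b, hb⟩ := IsAlgClosed.exists_pow_nat_eq (1 : L) (n := 5) (by norm_num)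
  haveI : NeZero ((5 : ℕ) : L) := ⟨by rw [← map_natCast φ]; exact (map_ne_zero φ).mpr (by exact_mod_cast h5)⟩
  obtain ⟨c, hc⟩ := HasEnoughRootsOfUnity.exists_primitiveRoot L 5
  rw [five_spec h5 h4 hx hxn hxc hc.pow_eq_one (hc.ne_one (by norm_num)),
    five_spec h5 h4 hy hyn hyc hc.pow_eq_one (hc.ne_one (by norm_num))]

end CfsgLib.SympFour
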