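import Cfsg.Agent.SympFour.Models
import Cfsg.Agent.SympFour.Classes
import Cfsg.Agent.CharpolySS.Matrix
import Cfsg.Agent.InvNorm.Hermitian
import Cfsg.Prelude.Def_ClassicalGeometry

/-!
# Common steps for the fixed point statements about normalisers of symplectic type groups in dimension four
-/

set_option autoImplicit false
set_option linter.unusedSectionVars false

namespace CfsgLib.SympFour

open Matrix Cfsg.Geo

variable {ι : Type} [Fintype ι] [DecidableEq ι] {F : Type*} [Field F] {R : Subgroup (GL ι F)}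

local notation "Mι" => Matrix ι ι F

theorem sform_herm {n p : ℕ} [Fact p.Prime] [CharP F p] [Fintype F] (hF : Fintype.card F = p ^ 2) :
    SForm (Cfsg.hermForm n F p) := by
  obtain ⟨σ, hσ, -⟩ := CfsgLib.FieldEmb.exists_conj hF
  refine ⟨fun u v w => ?_, fun u v w => ?_, fun c u v => ?_, σ, fun c u v => ?_⟩
  · simp [Cfsg.hermForm, add_mul, Finset.sum_add_distrib]
  · simp [Cfsg.hermForm, ← hσ, mul_add, Finset.sum_add_distrib]
  · simp [Cfsg.hermForm, mul_assoc, Finset.mul_sum]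
  · simp only [Cfsg.hermForm, Pi.smul_apply, smul_eq_mul, ← hσ, map_mul, Finset.mul_sum]
    exact Finset.sum_congr rfl fun i _ => by ring

theorem sform_symp (m : ℕ) : SForm (Cfsg.sympForm m F) := by
  refine ⟨fun u v w => ?_, fun u v w => ?_, fun c u v => ?_, RingHom.id F, fun c u v => ?_⟩
  · simp [Cfsg.sympForm, add_dotProduct]
  · simp [Cfsg.sympForm, Matrix.mulVec_add, dotProduct_add]
  · simp [Cfsg.sympForm, smul_dotProduct]
  · simp [Cfsg.sympForm, Matrix.mulVec_smul, dotProduct_smul]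

/-- A scalar as an element of the general linear group. -/
def scalarGL (c : Fˣ) : GL ι F :=
  ⟨(c : F) • 1, ((c⁻¹ : Fˣ) : F) • 1, by simp [smul_smul], by simp [smul_smul]⟩

theorem scalarGL_val (c : Fˣ) : ((scalarGL c : GL ι F) : Mι) = (c : F) • 1 := rfl

theorem scalarGL_comm (c : Fˣ) (g : GL ι F) : scalarGL c * g = g * scalarGL c :=
  Units.ext (by rw [Units.val_mul, Units.val_mul, scalarGL_val]; simp)

theorem mem_normalizer_of_comm {s : GL ι F} (hs : ∀ g, s * g = g * s) : s ∈ subgroupNormalizer R :=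
  Subgroup.mem_normalizer_iff.mpr fun t => by rw [hs t, mul_inv_cancel_right]

theorem smul_val_mul {s x : GL ι F} {c : F} (hs : (s : Mι) = c • 1) : ((s * x : GL ι F) : Mι) = c • (x : Mι) := by
  rw [Units.val_mul, hs, Matrix.smul_mul, Matrix.one_mul]

/-- For odd `r`, an element with `x ^ r` a fourth root of unity has a scalar multiple of order dividing `r`. -/
theorem exists_scaled {r : ℕ} (hr : Odd r) {x : GL ι F} {z : F} (hz4 : z ^ 4 = 1)
    (hz : (x : Mι) ^ r = z • 1) :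
    ∃ c : Fˣ, (c : F) ^ 4 = 1 ∧ (c : F) = z ^ (3 * r) ∧ (scalarGL c * x) ^ r = 1 := by
  have hz0 : z ≠ 0 := fun e => by simp [e] at hz4
  refine ⟨Units.mk0 (z ^ (3 * r)) (pow_ne_zero _ hz0), ?_, rfl, Units.ext ?_⟩
  · rw [Units.val_mk0, ← pow_mul, mul_comm, pow_mul, hz4, one_pow]
  · rw [Units.val_pow_eq_pow_val, smul_val_mul (scalarGL_val _), smul_pow, hz, smul_smul, Units.val_one,
      Units.val_mk0, ← pow_mul, ← pow_succ]
    obtain ⟨k, rfl⟩ := hr
    rw [show 3 * (2 * k + 1) * (2 * k + 1) + 1 = 4 * (3 * k * k + 3 * k + 1) by ring, pow_mul, hz4, one_pow, one_smul]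

/-- A conjugate of a scalar multiple in the normaliser gives a conjugate in the normaliser. -/
theorem conj_of_scaled {c : Fˣ} {x g : GL ι F} (h : g⁻¹ * (scalarGL c * x) * g ∈ subgroupNormalizer R) :
    g⁻¹ * x * g ∈ subgroupNormalizer R := by
  have e : g⁻¹ * (scalarGL c * x) * g = scalarGL c * (g⁻¹ * x * g) := by
    rw [← mul_assoc (g⁻¹), ← scalarGL_comm c g⁻¹]
    simp only [mul_assoc]
  rw [e] at h
  exact (Subgroup.mul_mem_cancel_left _ (mem_normalizer_of_comm (scalarGL_comm c))).mp h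

theorem nonscalar_conj {x g : GL ι F} (hns : ∀ c : F, (x : Mι) ≠ c • 1) :
    ∀ c : F, ((g⁻¹ * x * g : GL ι F) : Mι) ≠ c • 1 := fun c hc => hns c (by
  have e : x = g * (g⁻¹ * x * g) * g⁻¹ := by group
  rw [e, Units.val_mul, Units.val_mul, hc, Matrix.mul_smul, Matrix.mul_one, Matrix.smul_mul, Units.mul_inv])

/-- The trace identity rules out conjugates in the normaliser. -/
theorem Ctx.no_conj (h : Ctx R) (hz : Nat.card (Subgroup.center R) = 2 ∨ Nat.card (Subgroup.center R) = 4)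
    {r : ℕ} [Fact r.Prime] (hr2 : r ≠ 2) {x : GL ι F} (hxr : x ^ r = 1) (hns : ∀ c : F, (x : Mι) ≠ c • 1)
    (hbad : ∀ j, j < 4 → 2 ^ j ≡ 16 [MOD r] →
      (x : Mι).trace * ((x⁻¹ : GL ι F) : Mι).trace ≠ ((2 ^ j : ℕ) : F)) (g : GL ι F) :
    g⁻¹ * x * g ∉ subgroupNormalizer R := fun hN => by
  obtain ⟨j, hj, -, hmod, htr, hsc⟩ := h.fixedIndex hz hN hr2 (r := r) (by
    rw [show g⁻¹ * x * g = g⁻¹ * x * (g⁻¹)⁻¹ by rw [inv_inv], conj_pow, hxr, mul_one, mul_inv_cancel])
  have hj4 : j < 4 := lt_of_le_of_ne hj fun e => by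
    obtain ⟨c, hc⟩ := hsc e
    exact nonscalar_conj hns c hc
  refine hbad j hj4 hmod ?_
  rw [← htr, _root_.mul_inv_rev, _root_.mul_inv_rev, inv_inv, ← mul_assoc g⁻¹ x⁻¹ g]
  simp only [Units.val_mul]
  rw [Matrix.trace_units_conj', Matrix.trace_units_conj']

theorem Ctx.no_conj_transvection (h : Ctx R) {x : GL ι F} (ht : IsTransv x)
    (hns : ∀ c : F, (x : Mι) ≠ c • 1) (g : GL ι F) : g⁻¹ * x * g ∉ subgroupNormalizer R := fun hN => by
  obtain ⟨c, hc⟩ := h.eq_one_of_transvection hN (ht.conj g)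
  exact nonscalar_conj hns c hc

/-- A prime above five dividing the order of `G` has an element with no conjugate in the normaliser. -/
theorem Ctx.counter_seven [Fintype F] (h : Ctx R)
    (hz : Nat.card (Subgroup.center R) = 2 ∨ Nat.card (Subgroup.center R) = 4)
    {G : Subgroup (GL ι F)} (hdet : ∀ g ∈ G, (g : Mι).det = 1) {r : ℕ} [Fact r.Prime] (hr7 : 7 ≤ r)
    (hdvd : r ∣ Nat.card G) :
    ∃ x ∈ G, x ^ r = 1 ∧ (∀ c : F, (x : Mι) ≠ c • 1) ∧ ∀ g : GL ι F, g⁻¹ * x * g ∉ subgroupNormalizer R := by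
  obtain ⟨⟨x, hx⟩, hxo⟩ := exists_prime_orderOf_dvd_card' r hdvd
  rw [Subgroup.orderOf_mk] at hxo
  have hxr : x ^ r = 1 := hxo ▸ pow_orderOf_eq_one x
  have hns : ∀ c : F, (x : Mι) ≠ c • 1 := by
    intro c hc
    haveI : Nonempty ι := Fintype.card_pos_iff.mp (by rw [h.card4]; norm_num)
    obtain ⟨i⟩ := (inferInstance : Nonempty ι)
    have hc4 : c ^ 4 = 1 := by
      have := hdet x hx
      rwa [hc, Matrix.det_smul, Matrix.det_one, mul_one, h.card4] at this
    have hcr : c ^ r = 1 := by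
      have := congrArg (fun g : GL ι F => (g : Mι) i i) hxr
      simpa [hc, smul_pow] using this
    have hc1 : c = 1 := by
      have h1 := pow_gcd_eq_one.2 ⟨hcr, hc4⟩
      have : Nat.Coprime r 4 := by
        rw [show (4 : ℕ) = 2 ^ 2 by norm_num]
        exact Nat.Coprime.pow_right 2 ((Nat.coprime_primes Fact.out Nat.prime_two).mpr (by omega))
      rwa [this.gcd_eq_one, pow_one] at h1
    have : x = 1 := Units.ext (by rw [hc, hc1, one_smul, Units.val_one])
    rw [this, orderOf_one] at hxo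
    omega
  refine ⟨x, hx, hxr, hns, fun g hN => ?_⟩
  obtain ⟨c, hc⟩ := h.scalar_of_seven_le hz hN hr7 (by
    rw [show g⁻¹ * x * g = g⁻¹ * x * (g⁻¹)⁻¹ by rw [inv_inv], conj_pow, hxr, mul_one, mul_inv_cancel])
  exact nonscalar_conj hns c hc

theorem orderOf_coprime {G : Type*} [Monoid G] {p N : ℕ} {x : G} (hx : x ^ N = 1) (hN : N.Coprime p) :
    (orderOf x).Coprime p := Nat.Coprime.of_dvd_left (orderOf_dvd_of_pow_eq_one hx) hN

/-- The roots of `θ² + θ - 1` give elements of order five. -/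
theorem theta_pow_five {θ : F} (hθ : θ * θ + θ - 1 = 0) {A : Mι} (hA : A * A = θ • A - 1) : A ^ 5 = 1 := by
  have e3 : A * (A * A) = (θ * θ - 1) • A - θ • 1 := by
    rw [hA, mul_sub, Matrix.mul_smul, hA, mul_one]; module
  rw [show A ^ 5 = (A * A) * (A * (A * A)) by noncomm_ring, e3, hA, sub_mul, Matrix.smul_mul, mul_sub, one_mul,
    Matrix.mul_smul, Matrix.mul_smul, hA, mul_one]
  linear_combination (norm := module) (hθ) • ((θ * θ - θ - 1) • A - (θ - 1) • (1 : Mι))

theorem exists_theta {p : ℕ} [Fact p.Prime] [CharP F p] (h2 : (2 : F) ≠ 0)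
    (h5 : orderOf (p : ZMod 5) ≠ 4) : ∃ θ : F, θ * θ + θ - 1 = 0 ∧ ∃ n : ZMod p, θ = ZMod.castHom dvd_rfl F n := by
  have hp2 : p ≠ 2 := fun e => h2 (by subst e; exact_mod_cast CharP.cast_eq_zero F 2)
  have hsq : IsSquare (5 : ZMod p) := by
    have hs : IsSquare (p : ZMod 5) := by
      generalize hg : (p : ZMod 5) = a at h5
      have key : ∀ a : ZMod 5, a = 0 ∨ a = 1 ∨ a = 4 ∨ a = 2 ∨ a = 3 := by decide
      haveI : Fact (Nat.Prime 2) := ⟨Nat.prime_two⟩
      rcases key a with rfl | rfl | rfl | rfl | rfl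
      · exact ⟨0, rfl⟩
      · exact ⟨1, rfl⟩
      · exact ⟨2, rfl⟩
      · exact absurd (orderOf_eq_prime_pow (p := 2) (n := 1) (by decide +revert) (by decide +revert)) h5
      · exact absurd (orderOf_eq_prime_pow (p := 2) (n := 1) (by decide +revert) (by decide +revert)) h5
    haveI : Fact (Nat.Prime 5) := ⟨Nat.prime_five⟩
    exact_mod_cast (ZMod.exists_sq_eq_prime_iff_of_mod_four_eq_one (p := 5) (q := p) (by norm_num) hp2).mp hs
  obtain ⟨s, hs⟩ := hsq
  refine ⟨ZMod.castHom dvd_rfl F ((s - 1) / 2), ?_, _, rfl⟩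
  have h2p : (2 : ZMod p) ≠ 0 := fun e => h2 (by
    have := congrArg (ZMod.castHom dvd_rfl F) e
    rwa [map_ofNat, map_zero] at this)
  have e : ((s - 1) / 2) * ((s - 1) / 2) + (s - 1) / 2 - 1 = (0 : ZMod p) := by
    field_simp
    linear_combination -hs
  have := congrArg (ZMod.castHom dvd_rfl F) e
  rwa [map_sub, map_add, map_mul, map_one, map_zero] at this

/-- The trace product of a `(θ, 1, 1)` element is neither one nor sixteen. -/
theorem theta_bad {θ : F} (hθ : θ * θ + θ - 1 = 0) (h5 : (5 : F) ≠ 0) :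
    ∀ j, j < 4 → 2 ^ j ≡ 16 [MOD 5] → (θ + 2) * (θ + 2) ≠ ((2 ^ j : ℕ) : F) := by
  intro j hj hmod
  interval_cases j <;> norm_num [Nat.ModEq] at hmod
  intro e
  have e' : (θ + 2) * (θ + 2) = 1 := by simpa using e
  refine h5 ?_
  linear_combination (3 * θ - 1) * (e' - hθ) - 9 * hθ

end CfsgLib.SympFour
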