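import Cfsg.Agent.SympFour.Identity

/-!
# Elements of the normaliser of a group of symplectic type in dimension four

Products of two differences of anticommuting involutions give elements of order three, two of these an element of
order five, and two commuting involutions give a reflection.
-/

set_option autoImplicit false
set_option linter.unusedSectionVars false

namespace CfsgLib.SympFour

open Matrix Cfsg.Geo
open Fin.NatCast

variable {ι : Type} [Fintype ι] [DecidableEq ι] {F : Type*} [Field F]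

local notation "GLι" => GL ι F
local notation "Mι" => Matrix ι ι F

/-- A form that is linear in the first and semilinear in the second argument. -/
structure SForm (f : (ι → F) → (ι → F) → F) : Prop where
  add_left : ∀ u v w, f (u + v) w = f u w + f v w
  add_right : ∀ u v w, f u (v + w) = f u v + f u w
  smul_left : ∀ (c : F) u v, f (c • u) v = c * f u v
  smul_right : ∃ σ : F →+* F, ∀ (c : F) u v, f u (c • v) = σ c * f u v

namespace SForm

variable {f : (ι → F) → (ι → F) → F}

theorem sub_left (hf : SForm f) (u v w : ι → F) : f (u - v) w = f u w - f v w := by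
  have := hf.add_left (u - v) v w
  rw [sub_add_cancel] at this
  rw [this]; ring

theorem sub_right (hf : SForm f) (u v w : ι → F) : f u (v - w) = f u v - f u w := by
  have := hf.add_right u (v - w) w
  rw [sub_add_cancel] at this
  rw [this]; ring

theorem neg_right (hf : SForm f) (u v : ι → F) : f u (-v) = -f u v := by
  have h0 := hf.add_right u 0 0
  rw [add_zero] at h0
  have := hf.add_right u (-v) v
  rw [neg_add_cancel] at this
  linear_combination -this + (2 : F) * 0 - h0

theorem smul_nat (hf : SForm f) (n : ℕ) (u v : ι → F) : f u ((n : F) • v) = n * f u v := by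
  obtain ⟨σ, hσ⟩ := hf.smul_right
  rw [hσ, map_natCast]

theorem smul_half (hf : SForm f) (u v : ι → F) : f u ((2 : F)⁻¹ • v) = (2 : F)⁻¹ * f u v := by
  obtain ⟨σ, hσ⟩ := hf.smul_right
  rw [hσ, map_inv₀, map_ofNat]

end SForm

/-- An isometry of a form. -/
def IsIso (f : (ι → F) → (ι → F) → F) (x : GLι) : Prop :=
  ∀ u v, f ((x : Mι) *ᵥ u) ((x : Mι) *ᵥ v) = f u v

theorem self_adjoint {f : (ι → F) → (ι → F) → F} {a : GLι} (ha : IsIso f a) (haa : a * a = 1) (u v : ι → F) :
    f ((a : Mι) *ᵥ u) v = f u ((a : Mι) *ᵥ v) := by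
  have e : (a : Mι) * a = 1 := congrArg Units.val haa
  conv_lhs => rw [← Matrix.one_mulVec v, ← e, ← Matrix.mulVec_mulVec, ha]

theorem mat_mul_of_anti {a b : GLι} (h : a * b = -(b * a)) : (a : Mι) * b = -((b : Mι) * a) := congrArg Units.val h

/-- The difference of two anticommuting involutions scales a form by two. -/
theorem diff_form {f : (ι → F) → (ι → F) → F} (hf : SForm f) {a b : GLι} (haa : a * a = 1) (hbb : b * b = 1)
    (hab : a * b = -(b * a)) (ha : IsIso f a) (hb : IsIso f b) (u v : ι → F) :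
    f (((a : Mι) - (b : Mι)) *ᵥ u) (((a : Mι) - (b : Mι)) *ᵥ v) = 2 * f u v := by
  rw [Matrix.sub_mulVec, Matrix.sub_mulVec, hf.sub_left, hf.sub_right, hf.sub_right, ha, hb,
    self_adjoint ha haa, self_adjoint hb hbb, Matrix.mulVec_mulVec, Matrix.mulVec_mulVec, mat_mul_of_anti hab,
    Matrix.neg_mulVec, hf.neg_right]
  ring

theorem diff_sq {a b : GLι} (haa : a * a = 1) (hbb : b * b = 1) (hab : a * b = -(b * a)) :
    ((a : Mι) - (b : Mι)) * ((a : Mι) - (b : Mι)) = (2 : F) • 1 := by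
  have e1 : (a : Mι) * a = 1 := congrArg Units.val haa
  have e2 : (b : Mι) * b = 1 := congrArg Units.val hbb
  rw [sub_mul, mul_sub, mul_sub, e1, e2, mat_mul_of_anti hab, two_smul]
  abel

theorem diff_left {a b : GLι} (haa : a * a = 1) (hbb : b * b = 1) :
    ((a : Mι) - (b : Mι)) * a = -((b : Mι) * ((a : Mι) - (b : Mι))) ∧ ((a : Mι) - (b : Mι)) * b = -((a : Mι) * ((a : Mι) - (b : Mι))) := by
  have e1 : (a : Mι) * a = 1 := congrArg Units.val haa
  have e2 : (b : Mι) * b = 1 := congrArg Units.val hbb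
  constructor <;> rw [sub_mul, mul_sub, e1, e2] <;> abel

theorem diff_anti {a b w : GLι} (haw : a * w = -(w * a)) (hbw : b * w = -(w * b)) :
    ((a : Mι) - (b : Mι)) * w = -((w : Mι) * ((a : Mι) - (b : Mι))) := by
  rw [sub_mul, mul_sub, mat_mul_of_anti haw, mat_mul_of_anti hbw]; abel

theorem diff_comm {a b w : GLι} (haw : a * w = w * a) (hbw : b * w = w * b) :
    ((a : Mι) - (b : Mι)) * w = (w : Mι) * ((a : Mι) - (b : Mι)) := by
  rw [sub_mul, mul_sub, ← Units.val_mul, ← Units.val_mul, ← Units.val_mul, ← Units.val_mul, haw, hbw]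

/-- The element of order three attached to three pairwise anticommuting involutions. -/
structure Triple (a b c T : GLι) : Prop where
  val : (T : Mι) = (2 : F)⁻¹ • ((a : Mι) * b - (a : Mι) * c + (b : Mι) * c - 1)
  map_a : T * a = b * T
  map_b : T * b = c * T
  map_c : T * c = a * T
  fix : ∀ w : GLι, ((a * w = -(w * a) ∧ b * w = -(w * b) ∧ c * w = -(w * c)) ∨
    (a * w = w * a ∧ b * w = w * b ∧ c * w = w * c)) → T * w = w * T
  det : (T : Mι).det = 1
  sq : (T : Mι) * T + (T : Mι) + 1 = 0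
  iso : ∀ f, SForm f → IsIso f a → IsIso f b → IsIso f c → IsIso f T

theorem exists_triple (h2 : (2 : F) ≠ 0) (h4 : Fintype.card ι = 4) {a b c : GLι} (haa : a * a = 1) (hbb : b * b = 1) (hcc : c * c = 1)
    (hab : a * b = -(b * a)) (hac : a * c = -(c * a)) (hbc : b * c = -(c * b)) : ∃ T : GLι, Triple a b c T := by
  set S₁ : Mι := (a : Mι) - (b : Mι) with hS₁
  set S₂ : Mι := (b : Mι) - (c : Mι) with hS₂
  have q1 : S₁ * S₁ = (2 : F) • 1 := diff_sq haa hbb hab
  have q2 : S₂ * S₂ = (2 : F) • 1 := diff_sq hbb hcc hbc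
  obtain ⟨l1, r1⟩ := diff_left haa hbb
  obtain ⟨l2, r2⟩ := diff_left hbb hcc
  have hba : b * a = -(a * b) := by rw [hab, neg_neg]
  have hca : c * a = -(a * c) := by rw [hac, neg_neg]
  have hcb : c * b = -(b * c) := by rw [hbc, neg_neg]
  have o1 : S₁ * (c : Mι) = -((c : Mι) * S₁) := diff_anti hac hbc
  have o2 : S₂ * (a : Mι) = -((a : Mι) * S₂) := diff_anti hba hca
  set M : Mι := (2 : F)⁻¹ • (S₁ * S₂) with hM
  set M' : Mι := (2 : F)⁻¹ • (S₂ * S₁) with hM'
  have hunit : M * M' = 1 := by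
    rw [hM, hM', Matrix.smul_mul, Matrix.mul_smul, smul_smul, mul_assoc S₁, ← mul_assoc S₂, q2, Matrix.smul_mul,
      Matrix.one_mul, Matrix.mul_smul, q1, smul_smul, smul_smul]
    simp [h2]
  let T : GLι := ⟨M, M', hunit, mul_eq_one_comm.mp hunit⟩
  have hTv : (T : Mι) = M := rfl
  have ma : T * a = b * T := Units.ext (by
    rw [Units.val_mul, Units.val_mul, hTv, hM, Matrix.smul_mul, Matrix.mul_smul, mul_assoc, o2, mul_neg, ← mul_assoc,
      l1, neg_mul, neg_neg, mul_assoc])
  have mb : T * b = c * T := Units.ext (by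
    rw [Units.val_mul, Units.val_mul, hTv, hM, Matrix.smul_mul, Matrix.mul_smul, mul_assoc, l2, mul_neg, ← mul_assoc,
      o1, neg_mul, neg_neg, mul_assoc])
  have mc : T * c = a * T := Units.ext (by
    rw [Units.val_mul, Units.val_mul, hTv, hM, Matrix.smul_mul, Matrix.mul_smul, mul_assoc, r2, mul_neg, ← mul_assoc,
      r1, neg_mul, neg_neg, mul_assoc])
  have hval : M = (2 : F)⁻¹ • ((a : Mι) * b - (a : Mι) * c + (b : Mι) * c - 1) := by
    rw [hM]
    congr 1
    rw [hS₁, hS₂, sub_mul, mul_sub, mul_sub, show (b : Mι) * b = 1 from congrArg Units.val hbb]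
    abel
  refine ⟨T, hval, ma, mb, mc, ?_, ?_, ?_, ?_⟩
  · intro w hw
    refine Units.ext ?_
    rw [Units.val_mul, Units.val_mul, hTv, hM, Matrix.smul_mul, Matrix.mul_smul, mul_assoc]
    rcases hw with ⟨h1, h2', h3⟩ | ⟨h1, h2', h3⟩
    · rw [diff_anti h2' h3, mul_neg, ← mul_assoc, diff_anti h1 h2', neg_mul, neg_neg, mul_assoc]
    · rw [diff_comm h2' h3, ← mul_assoc, diff_comm h1 h2', mul_assoc]
  · have hconj : (T : Mι) * S₁ = S₂ * T := by
      rw [hS₁, hS₂, mul_sub, sub_mul, ← Units.val_mul, ← Units.val_mul, ← Units.val_mul, ← Units.val_mul, ma, mb]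
    have hd : (T : Mι).det ≠ 0 := ((Matrix.isUnit_iff_isUnit_det _).mp T.isUnit).ne_zero
    have e := congrArg Matrix.det hconj
    rw [Matrix.det_mul, Matrix.det_mul, mul_comm S₂.det] at e
    have e12 : S₂.det = S₁.det := (mul_left_cancel₀ hd e).symm
    rw [hTv, hM, Matrix.det_smul, Matrix.det_mul, e12, ← Matrix.det_mul, q1, Matrix.det_smul, Matrix.det_one,
      mul_one, h4, ← mul_pow, inv_mul_cancel₀ h2, one_pow]
  · have hM'v : M' = -M - 1 := by
      rw [hval, hM', hS₁, hS₂, sub_mul, mul_sub, mul_sub, show (b : Mι) * b = 1 from congrArg Units.val hbb,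
        mat_mul_of_anti hba, mat_mul_of_anti hcb, mat_mul_of_anti hca]
      rw [show (1 : Mι) = (2 : F)⁻¹ • ((2 : F) • 1) by rw [smul_smul, inv_mul_cancel₀ h2, one_smul]]
      rw [← smul_neg, ← smul_sub]
      congr 1
      rw [smul_smul, inv_mul_cancel₀ h2, one_smul, two_smul]
      abel
    have e : M * (-M - 1) = 1 := hM'v ▸ hunit
    rw [mul_sub, mul_neg, mul_one] at e
    rw [hTv, show M * M + M + 1 = -(-(M * M) - M) + 1 by abel, e, neg_add_cancel]
  · intro f hf fa fb fc u v
    rw [hTv, hM, Matrix.smul_mulVec, Matrix.smul_mulVec, hf.smul_left, hf.smul_half, ← Matrix.mulVec_mulVec,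
      ← Matrix.mulVec_mulVec, diff_form hf haa hbb hab fa fb, diff_form hf hbb hcc hbc fb fc]
    field_simp

variable {R : Subgroup (GL ι F)}

theorem Ctx.nontrivial_ne (h : Ctx R) {a b : GLι} (hab : a * b = -(b * a)) : a ≠ b := fun e => by
  subst e; exact h.ne_neg _ hab

/-- Conjugates of the five involutions in `R` suffice for normalising. -/
theorem Five.mem_normalizer (h : Ctx R) (D : Five R) {y : GLι} (hy : ∀ k, y * D.g k * y⁻¹ ∈ R) :
    y ∈ subgroupNormalizer R := by
  haveI := h.fin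
  have hmap : ∀ t ∈ R, y * t * y⁻¹ ∈ R := by
    intro t ht
    have key := D.gen t ht
    clear ht
    induction key using Subgroup.closure_induction with
    | mem x hx =>
      rcases hx with ⟨k, rfl⟩ | ⟨hxR, hx⟩
      · exact hy k
      · obtain ⟨c, hc⟩ := CfsgLib.SympFour.scalar_of_commute h.absIrred (M := (x : Mι)) fun s hs => by
          rw [← Units.val_mul, ← Units.val_mul, hx s hs]
        rwa [h.mem_centralizer_of_scalar hc y, mul_inv_cancel_right]
    | one => simp
    | mul a b _ _ ea eb => rw [← conj_mul]; exact R.mul_mem ea eb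
    | inv a _ ea => rw [← conj_inv]; exact R.inv_mem ea
  refine Subgroup.mem_normalizer_iff.mpr fun t => ⟨hmap t, fun ht => ?_⟩
  let φ : R → R := fun s => ⟨y * s * y⁻¹, hmap s s.2⟩
  have hinj : Function.Injective φ := fun a b e => Subtype.ext (by simpa [φ] using e)
  obtain ⟨s, hs⟩ := (Finite.injective_iff_surjective.mp hinj) ⟨_, ht⟩
  have : (s : GLι) = t := by simpa [φ] using hs
  exact this ▸ s.2

theorem Five.scalar_mem_center (h : Ctx R) (D : Five R) {u : GLι} (hu : ∀ k, u * D.g k = D.g k * u) :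
    ∃ c : F, (u : Mι) = c • 1 :=
  D.scalar_of_commute h fun k => by rw [← Units.val_mul, ← Units.val_mul, hu k]

/-- An element of order three with trace `-2`. -/
theorem exists_three (h : Ctx R) (D : Five R) :
    ∃ T : GLι, T ∈ subgroupNormalizer R ∧ (T : Mι).det = 1 ∧ T ^ 3 = 1 ∧ (T : Mι).trace = -2 ∧
      (∀ c : F, (T : Mι) ≠ c • 1) ∧ ∀ f, SForm f → (∀ t ∈ R, IsIso f t) → IsIso f T := by
  obtain ⟨T, hT⟩ := exists_triple h.two h.card4 (D.sq 0) (D.sq 1) (D.sq 2) (D.anti 0 1 (by decide)) (D.anti 0 2 (by decide))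
    (D.anti 1 2 (by decide))
  refine ⟨T, D.mem_normalizer h fun k => ?_, hT.det, ?_, ?_, fun c hc => ?_,
    fun f hf hR => hT.iso f hf (hR _ (D.mem 0)) (hR _ (D.mem 1)) (hR _ (D.mem 2))⟩
  · have cases : ∀ k : Fin 5, k = 0 ∨ k = 1 ∨ k = 2 ∨ (k ≠ 0 ∧ k ≠ 1 ∧ k ≠ 2) := by decide
    rcases cases k with rfl | rfl | rfl | ⟨h0, h1, h2⟩
    · rw [hT.map_a, mul_inv_cancel_right]; exact D.mem 1
    · rw [hT.map_b, mul_inv_cancel_right]; exact D.mem 2
    · rw [hT.map_c, mul_inv_cancel_right]; exact D.mem 0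
    · rw [hT.fix _ (Or.inl ⟨D.anti 0 k h0.symm, D.anti 1 k h1.symm, D.anti 2 k h2.symm⟩), mul_inv_cancel_right]
      exact D.mem k
  · refine Units.ext ?_
    rw [Units.val_pow_eq_pow_val, Units.val_one]
    calc (T : Mι) ^ 3 = (T : Mι) * ((T : Mι) * T + T + 1) - ((T : Mι) * T + T + 1) + 1 := by noncomm_ring
      _ = 1 := by rw [hT.sq]; simp
  · have t0 : ∀ i j : Fin 5, i ≠ j → ((D.g i : Mι) * D.g j).trace = 0 := fun i j hij => by
      rw [← Units.val_mul]
      refine trace_zero_of_anti h.two (s := D.g i) ?_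
      conv_rhs => rw [mul_assoc, D.anti j i hij.symm, mul_neg, neg_neg]
    rw [hT.val, Matrix.trace_smul, Matrix.trace_sub, Matrix.trace_add, Matrix.trace_sub, t0 0 1 (by decide),
      t0 0 2 (by decide), t0 1 2 (by decide), Matrix.trace_one, h.card4, smul_eq_mul]
    have := h.two
    field_simp
    norm_num
  · exact h.nontrivial_ne (D.anti 0 1 (by decide)) (mul_right_cancel (b := T)
      ((h.mem_centralizer_of_scalar hc _).trans hT.map_a))

/-- An element of order five. -/
theorem exists_order_five (h : Ctx R) (D : Five R) :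
    ∃ Y : GLι, Y ∈ subgroupNormalizer R ∧ (Y : Mι).det = 1 ∧ Y ^ 5 = 1 ∧ (∀ c : F, (Y : Mι) ≠ c • 1) ∧
      ∀ f, SForm f → (∀ t ∈ R, IsIso f t) → IsIso f Y := by
  obtain ⟨U, hU⟩ := exists_triple h.two h.card4 (D.sq 0) (D.sq 1) (D.sq 2) (D.anti 0 1 (by decide))
    (D.anti 0 2 (by decide)) (D.anti 1 2 (by decide))
  obtain ⟨V, hV⟩ := exists_triple h.two h.card4 (D.sq 2) (D.sq 3) (D.sq 4) (D.anti 2 3 (by decide))
    (D.anti 2 4 (by decide)) (D.anti 3 4 (by decide))
  set Y := U * V with hY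
  have uf : ∀ k : Fin 5, 0 ≠ k → 1 ≠ k → 2 ≠ k → U * D.g k = D.g k * U := fun k a b c =>
    hU.fix _ (Or.inl ⟨D.anti 0 k a, D.anti 1 k b, D.anti 2 k c⟩)
  have vf : ∀ k : Fin 5, 2 ≠ k → 3 ≠ k → 4 ≠ k → V * D.g k = D.g k * V := fun k a b c =>
    hV.fix _ (Or.inl ⟨D.anti 2 k a, D.anti 3 k b, D.anti 4 k c⟩)
  have step : ∀ {a b c : GLι}, V * a = b * V → U * b = c * U → Y * a = c * Y := fun {a b c} e1 e2 => by
    rw [hY, mul_assoc, e1, ← mul_assoc, e2, mul_assoc]
  have hcyc : ∀ k : Fin 5, Y * D.g k = D.g (k + 1) * Y := by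
    intro k
    fin_cases k
    · exact step (vf 0 (by decide) (by decide) (by decide)) hU.map_a
    · exact step (vf 1 (by decide) (by decide) (by decide)) hU.map_b
    · exact step hV.map_a (uf 3 (by decide) (by decide) (by decide))
    · exact step hV.map_b (uf 4 (by decide) (by decide) (by decide))
    · exact step hV.map_c hU.map_c
  have hpow : ∀ (n : ℕ) (k : Fin 5), Y ^ n * D.g k = D.g (k + (n : Fin 5)) * Y ^ n := by
    intro n
    induction n with
    | zero => intro k; simp
    | succ n ih =>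
      intro k
      rw [pow_succ, mul_assoc, hcyc, ← mul_assoc, ih, mul_assoc, Nat.cast_succ, add_comm (n : Fin 5) 1, ← add_assoc]
  obtain ⟨c, hc⟩ := D.scalar_mem_center h (u := Y ^ 5) fun k => by
    rw [hpow, show ((5 : ℕ) : Fin 5) = 0 by decide, add_zero]
  have hdetY : (Y : Mι).det = 1 := by rw [hY, Units.val_mul, Matrix.det_mul, hU.det, hV.det, mul_one]
  have hc4 : c ^ 4 = 1 := by
    have := congrArg Matrix.det hc
    rwa [Units.val_pow_eq_pow_val, Matrix.det_pow, hdetY, one_pow, Matrix.det_smul, Matrix.det_one, mul_one, h.card4,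
      eq_comm] at this
  refine ⟨Y ^ 16, D.mem_normalizer h fun k => ?_, by
    rw [Units.val_pow_eq_pow_val, Matrix.det_pow, hdetY, one_pow], ?_, fun d hd => ?_, ?_⟩
  · rw [hpow, mul_inv_cancel_right]; exact D.mem _
  · refine Units.ext ?_
    rw [← pow_mul, show 16 * 5 = 5 * 16 by norm_num, pow_mul, Units.val_pow_eq_pow_val, hc, smul_pow, one_pow,
      show (16 : ℕ) = 4 * 4 by norm_num, pow_mul, hc4, one_pow, one_smul, Units.val_one]
  · refine h.nontrivial_ne (D.anti 0 1 (by decide)) (mul_right_cancel (b := Y ^ 16) ?_)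
    have := hpow 16 0
    rw [show (0 : Fin 5) + ((16 : ℕ) : Fin 5) = 1 by decide] at this
    exact (h.mem_centralizer_of_scalar hd _).trans this
  · intro f hf hR
    have hY1 : IsIso f Y := fun u v => by
      rw [hY, Units.val_mul, ← Matrix.mulVec_mulVec, ← Matrix.mulVec_mulVec,
        hU.iso f hf (hR _ (D.mem 0)) (hR _ (D.mem 1)) (hR _ (D.mem 2)),
        hV.iso f hf (hR _ (D.mem 2)) (hR _ (D.mem 3)) (hR _ (D.mem 4))]
    have : ∀ n : ℕ, IsIso f (Y ^ n) := fun n => by
      induction n with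
      | zero => intro u v; simp
      | succ n ih => intro u v; rw [pow_succ, Units.val_mul, ← Matrix.mulVec_mulVec, ← Matrix.mulVec_mulVec, ih, hY1]
    exact this 16

/-- An element of order three with trace `1`. -/
theorem exists_three' (h : Ctx R) (D : Five R) {I : GLι} (hI : I ∈ R) (hII : I * I = -1)
    (hIc : ∀ s ∈ R, s * I = I * s) :
    ∃ T : GLι, T ∈ subgroupNormalizer R ∧ (T : Mι).det = 1 ∧ T ^ 3 = 1 ∧ (T : Mι).trace = 1 ∧
      (∀ c : F, (T : Mι) ≠ c • 1) ∧ ∀ f, SForm f → (∀ t ∈ R, IsIso f t) → IsIso f T := by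
  have g34 := D.anti 3 4 (by decide)
  have g43 := D.anti 4 3 (by decide)
  set w := I * (D.g 3 * D.g 4) with hw
  have hwR : w ∈ R := R.mul_mem hI (R.mul_mem (D.mem 3) (D.mem 4))
  have cI : ∀ s ∈ R, ∀ t, s * (I * t) = I * (s * t) := fun s hs t => by rw [← mul_assoc, hIc s hs, mul_assoc]
  have hII' : ∀ t, I * (I * t) = -t := fun t => by rw [← mul_assoc, hII, neg_one_mul]
  have sq3 : ∀ t, D.g 3 * (D.g 3 * t) = t := fun t => by rw [← mul_assoc, D.sq, one_mul]
  have sq4 : ∀ t, D.g 4 * (D.g 4 * t) = t := fun t => by rw [← mul_assoc, D.sq, one_mul]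
  have sw : ∀ t, D.g 4 * (D.g 3 * t) = -(D.g 3 * (D.g 4 * t)) := fun t => by
    rw [← mul_assoc, g43, neg_mul, mul_assoc]
  have hww : w * w = 1 := by
    simp only [hw, mul_assoc, cI _ (D.mem 3), cI _ (D.mem 4), hII', sw, mul_neg, sq3, D.sq, neg_neg, mul_one, hII]
  have h3w : D.g 3 * w = -(w * D.g 3) := by
    simp only [hw, mul_assoc, cI _ (D.mem 3), g43, mul_neg, neg_neg]
  have h4w : D.g 4 * w = -(w * D.g 4) := by
    simp only [hw, mul_assoc, cI _ (D.mem 4), sw, mul_neg, D.sq, mul_one]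
  obtain ⟨U, hU⟩ := exists_triple h.two h.card4 (D.sq 0) (D.sq 1) (D.sq 2) (D.anti 0 1 (by decide))
    (D.anti 0 2 (by decide)) (D.anti 1 2 (by decide))
  obtain ⟨V, hV⟩ := exists_triple h.two h.card4 (D.sq 3) (D.sq 4) hww g34 h3w h4w
  have uI : U * I = I * U := hU.fix _ (Or.inr ⟨hIc _ (D.mem 0), hIc _ (D.mem 1), hIc _ (D.mem 2)⟩)
  have uf : ∀ k : Fin 5, 0 ≠ k → 1 ≠ k → 2 ≠ k → U * D.g k = D.g k * U := fun k a b c =>
    hU.fix _ (Or.inl ⟨D.anti 0 k a, D.anti 1 k b, D.anti 2 k c⟩)
  have u3 := uf 3 (by decide) (by decide) (by decide)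
  have u4 := uf 4 (by decide) (by decide) (by decide)
  have uw : U * w = w * U := by
    rw [hw, ← mul_assoc U, uI, mul_assoc, ← mul_assoc U, u3, mul_assoc, u4]
    simp only [mul_assoc]
  have hUV : U * V = V * U := by
    refine Units.ext ?_
    have c3 : (U : Mι) * D.g 3 = (D.g 3 : Mι) * U := congrArg Units.val u3
    have c4 : (U : Mι) * D.g 4 = (D.g 4 : Mι) * U := congrArg Units.val u4
    have cw : (U : Mι) * w = (w : Mι) * U := congrArg Units.val uw
    rw [Units.val_mul, Units.val_mul, hV.val, Matrix.mul_smul, Matrix.smul_mul]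
    congr 1
    simp only [mul_sub, sub_mul, mul_add, add_mul, mul_one, one_mul, ← mul_assoc, c3, c4]
    simp only [mul_assoc, c4, cw]
  -- the pairs among the first three commute with the second triple
  have pc : ∀ i j : Fin 5, i ≠ 3 → i ≠ 4 → j ≠ 3 → j ≠ 4 →
      D.g 3 * (D.g i * D.g j) = D.g i * D.g j * D.g 3 ∧ D.g 4 * (D.g i * D.g j) = D.g i * D.g j * D.g 4 ∧
        w * (D.g i * D.g j) = D.g i * D.g j * w := by
    intro i j a b c d
    have e3 : D.g 3 * (D.g i * D.g j) = D.g i * D.g j * D.g 3 := by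
      rw [← mul_assoc, D.anti 3 i a.symm, neg_mul, mul_assoc, D.anti 3 j c.symm, mul_neg, neg_neg, mul_assoc]
    have e4 : D.g 4 * (D.g i * D.g j) = D.g i * D.g j * D.g 4 := by
      rw [← mul_assoc, D.anti 4 i b.symm, neg_mul, mul_assoc, D.anti 4 j d.symm, mul_neg, neg_neg, mul_assoc]
    refine ⟨e3, e4, ?_⟩
    rw [hw, mul_assoc, mul_assoc (D.g 3), e4, ← mul_assoc (D.g 3), e3, mul_assoc (D.g i * D.g j),
      ← mul_assoc I, ← hIc _ (R.mul_mem (D.mem i) (D.mem j)), mul_assoc (D.g i * D.g j)]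
  have vI : V * I = I * V := hV.fix _ (Or.inr ⟨hIc _ (D.mem 3), hIc _ (D.mem 4), hIc _ hwR⟩)
  have hVN : V ∈ subgroupNormalizer R := by
    refine D.mem_normalizer h fun k => ?_
    have c3 : V * D.g 3 * V⁻¹ = D.g 4 := by rw [hV.map_a, mul_inv_cancel_right]
    have c4 : V * D.g 4 * V⁻¹ = w := by rw [hV.map_b, mul_inv_cancel_right]
    -- the product of the five is central
    set P := D.g 0 * (D.g 1 * (D.g 2 * (D.g 3 * D.g 4))) with hP
    have hPR : P ∈ R :=
      R.mul_mem (D.mem 0) (R.mul_mem (D.mem 1) (R.mul_mem (D.mem 2) (R.mul_mem (D.mem 3) (D.mem 4))))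
    obtain ⟨d, hd⟩ : ∃ d : F, (P : Mι) = d • 1 := D.scalar_mem_center h (u := P) (by
      have r : ∀ i j : Fin 5, j < i → ∀ w, D.g i * (D.g j * w) = -(D.g j * (D.g i * w)) := fun i j hij w => by
        rw [← mul_assoc, D.anti i j hij.ne', neg_mul, mul_assoc]
      have r' : ∀ i j : Fin 5, j < i → D.g i * D.g j = -(D.g j * D.g i) := fun i j hij => D.anti i j hij.ne'
      have sqr : ∀ i w, D.g i * (D.g i * w) = w := fun i w => by rw [← mul_assoc, D.sq, one_mul]
      intro k
      fin_cases k <;>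
        simp [hP, mul_assoc, sqr, D.sq, r 1 0 (by decide), r 2 0 (by decide), r 3 0 (by decide), r 4 0 (by decide),
          r 2 1 (by decide), r 3 1 (by decide), r 4 1 (by decide), r 3 2 (by decide), r 4 2 (by decide),
          r 4 3 (by decide), r' 1 0 (by decide), r' 2 0 (by decide), r' 3 0 (by decide), r' 4 0 (by decide),
          r' 2 1 (by decide), r' 3 1 (by decide), r' 4 1 (by decide), r' 3 2 (by decide), r' 4 2 (by decide),
          r' 4 3 (by decide)])
    have hVP : V * P * V⁻¹ = P := by rw [h.mem_centralizer_of_scalar hd V, mul_inv_cancel_right]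
    have hpair : ∀ i j : Fin 5, i ≠ 3 → i ≠ 4 → j ≠ 3 → j ≠ 4 →
        V * (D.g i * D.g j) * V⁻¹ = D.g i * D.g j := fun i j a b c d => by
      rw [hV.fix _ (Or.inr (pc i j a b c d)), mul_inv_cancel_right]
    have e012 : D.g 0 * D.g 1 * D.g 2 = P * (D.g 4 * D.g 3) := by
      simp only [hP, mul_assoc, sq4, D.sq, mul_one]
    have h012 : V * (D.g 0 * D.g 1 * D.g 2) * V⁻¹ ∈ R := by
      rw [e012, ← conj_mul, hVP, ← conj_mul, c4, c3]
      exact R.mul_mem hPR (R.mul_mem hwR (D.mem 4))
    have m : ∀ x, V * x * V⁻¹ ∈ R → ∀ i j : Fin 5, i ≠ 3 → i ≠ 4 → j ≠ 3 → j ≠ 4 →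
        V * (x * (D.g i * D.g j)) * V⁻¹ ∈ R ∧ V * (D.g i * D.g j * x) * V⁻¹ ∈ R := fun x hx i j a b c d =>
      ⟨by rw [← conj_mul, hpair i j a b c d]; exact R.mul_mem hx (R.mul_mem (D.mem _) (D.mem _)),
        by rw [← conj_mul, hpair i j a b c d]; exact R.mul_mem (R.mul_mem (D.mem _) (D.mem _)) hx⟩
    have sqr : ∀ i w, D.g i * (D.g i * w) = w := fun i w => by rw [← mul_assoc, D.sq, one_mul]
    fin_cases k
    · show V * D.g 0 * V⁻¹ ∈ R
      have := (m _ h012 2 1 (by decide) (by decide) (by decide) (by decide)).1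
      simpa only [mul_assoc, sqr, D.sq, mul_one] using this
    · show V * D.g 1 * V⁻¹ ∈ R
      have := (m _ ((m _ h012 2 1 (by decide) (by decide) (by decide) (by decide)).1) 1 0
        (by decide) (by decide) (by decide) (by decide)).2
      simpa only [mul_assoc, sqr, D.sq, mul_one] using this
    · show V * D.g 2 * V⁻¹ ∈ R
      have := (m _ h012 1 0 (by decide) (by decide) (by decide) (by decide)).2
      simpa only [mul_assoc, sqr, D.sq, mul_one] using this
    · exact c3.symm ▸ D.mem 4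
    · exact c4.symm ▸ hwR
  have hUN : U ∈ subgroupNormalizer R := by
    refine D.mem_normalizer h fun k => ?_
    have cases : ∀ k : Fin 5, k = 0 ∨ k = 1 ∨ k = 2 ∨ (k ≠ 0 ∧ k ≠ 1 ∧ k ≠ 2) := by decide
    rcases cases k with rfl | rfl | rfl | ⟨h0, h1, h2⟩
    · rw [hU.map_a, mul_inv_cancel_right]; exact D.mem 1
    · rw [hU.map_b, mul_inv_cancel_right]; exact D.mem 2
    · rw [hU.map_c, mul_inv_cancel_right]; exact D.mem 0
    · rw [uf k h0.symm h1.symm h2.symm, mul_inv_cancel_right]; exact D.mem k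
  have cube : ∀ {a b c T : GLι}, Triple a b c T → T ^ 3 = 1 := fun {a b c T} hT => Units.ext (by
    rw [Units.val_pow_eq_pow_val, Units.val_one]
    calc (T : Mι) ^ 3 = (T : Mι) * ((T : Mι) * T + T + 1) - ((T : Mι) * T + T + 1) + 1 := by noncomm_ring
      _ = 1 := by rw [hT.sq]; simp)
  refine ⟨U * V, mul_mem hUN hVN, by rw [Units.val_mul, Matrix.det_mul, hU.det, hV.det, mul_one],
    by rw [(show Commute U V from hUV).mul_pow, cube hU, cube hV, mul_one], ?_, fun c hc => ?_, ?_⟩
  · -- the trace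
    have hp : ∀ i j : Fin 5, i ≠ j → ((D.g i * D.g j : GLι) : Mι).trace = 0 := fun i j hij => by
      refine trace_zero_of_anti h.two (s := D.g i) ?_
      conv_rhs => rw [mul_assoc, D.anti j i hij.symm, mul_neg, neg_neg]
    have hq : ∀ i j k : Fin 5, i ≠ 3 → i ≠ 4 → j ≠ 3 → j ≠ 4 → k ≠ 3 → k ≠ 4 → i ≠ j → j ≠ k → i ≠ k →
        ∀ q, D.g j * D.g k * q = q * (D.g j * D.g k) → ((D.g i * D.g j * q : GLι) : Mι).trace = 0 := by
      intro i j k _ _ _ _ _ _ hij hjk hik q hq
      refine trace_zero_of_anti h.two (s := D.g j * D.g k) ?_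
      have e : D.g j * D.g k * (D.g i * D.g j) = -(D.g i * D.g j * (D.g j * D.g k)) := by
        have sqr : ∀ w, D.g j * (D.g j * w) = w := fun w => by rw [← mul_assoc, D.sq, one_mul]
        simp only [mul_assoc, sqr]
        rw [← mul_assoc (D.g k), D.anti k i hik.symm, neg_mul, mul_assoc, mul_neg, ← mul_assoc (D.g j),
          D.anti j i hij.symm, neg_mul, mul_assoc, neg_neg, D.anti k j hjk.symm, mul_neg, mul_neg, sqr]
      rw [← mul_assoc, e, neg_mul, mul_assoc (D.g i * D.g j), hq, ← mul_assoc]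
    have sw34 : ((D.g 3 * D.g 4 : GLι) : Mι).trace = 0 := hp 3 4 (by decide)
    have sw3 : ((D.g 3 * w : GLι) : Mι).trace = 0 := by
      refine trace_zero_of_anti h.two (s := D.g 3) ?_
      conv_rhs => rw [mul_assoc, show w * D.g 3 = -(D.g 3 * w) by rw [h3w, neg_neg], mul_neg, neg_neg]
    have sw4 : ((D.g 4 * w : GLι) : Mι).trace = 0 := by
      refine trace_zero_of_anti h.two (s := D.g 4) ?_
      conv_rhs => rw [mul_assoc, show w * D.g 4 = -(D.g 4 * w) by rw [h4w, neg_neg], mul_neg, neg_neg]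
    have qc : ∀ j k : Fin 5, j ≠ 3 → j ≠ 4 → k ≠ 3 → k ≠ 4 →
        D.g j * D.g k * (D.g 3 * D.g 4) = D.g 3 * D.g 4 * (D.g j * D.g k) ∧
        D.g j * D.g k * (D.g 3 * w) = D.g 3 * w * (D.g j * D.g k) ∧
        D.g j * D.g k * (D.g 4 * w) = D.g 4 * w * (D.g j * D.g k) := by
      intro j k a b c d
      obtain ⟨e3, e4, ew⟩ := pc j k a b c d
      have cm : ∀ {q q' : GLι}, Commute q (D.g j * D.g k) → Commute q' (D.g j * D.g k) →
          D.g j * D.g k * (q * q') = q * q' * (D.g j * D.g k) := fun h1 h2 => (h1.mul_left h2).eq.symm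
      exact ⟨cm e3 e4, cm e3 ew, cm e4 ew⟩
    rw [Units.val_mul, hU.val, hV.val, Matrix.smul_mul, Matrix.mul_smul, smul_smul, Matrix.trace_smul, smul_eq_mul]
    simp only [mul_add, add_mul, mul_sub, sub_mul, mul_one, one_mul, ← Units.val_mul, Matrix.trace_add,
      Matrix.trace_sub]
    obtain ⟨a1, a2, a3⟩ := qc 1 2 (by decide) (by decide) (by decide) (by decide)
    obtain ⟨b1, b2, b3⟩ := qc 2 1 (by decide) (by decide) (by decide) (by decide)
    obtain ⟨c1, c2, c3⟩ := qc 2 0 (by decide) (by decide) (by decide) (by decide)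
    have z01 := hq 0 1 2 (by decide) (by decide) (by decide) (by decide) (by decide) (by decide) (by decide) (by decide) (by decide)
    have z02 := hq 0 2 1 (by decide) (by decide) (by decide) (by decide) (by decide) (by decide) (by decide) (by decide) (by decide)
    have z12 := hq 1 2 0 (by decide) (by decide) (by decide) (by decide) (by decide) (by decide) (by decide) (by decide) (by decide)
    rw [z01 _ a1, z01 _ a2, z01 _ a3, z02 _ b1, z02 _ b2, z02 _ b3, z12 _ c1, z12 _ c2, z12 _ c3, hp 0 1 (by decide),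
      hp 0 2 (by decide), hp 1 2 (by decide), sw34, sw3, sw4, Matrix.trace_one, h.card4]
    have := h.two
    field_simp
    norm_num
  · have : U * V * D.g 3 = D.g 4 * (U * V) := by rw [mul_assoc, hV.map_a, ← mul_assoc, u4, mul_assoc]
    exact h.nontrivial_ne g34 (mul_right_cancel (b := U * V) ((h.mem_centralizer_of_scalar hc _).trans this))
  · intro f hf hR u v
    rw [Units.val_mul, ← Matrix.mulVec_mulVec, ← Matrix.mulVec_mulVec,
      hU.iso f hf (hR _ (D.mem 0)) (hR _ (D.mem 1)) (hR _ (D.mem 2)),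
      hV.iso f hf (hR _ (D.mem 3)) (hR _ (D.mem 4)) (hR _ hwR)]

/-- A reflection normalising `R`. -/
theorem exists_reflection (h : Ctx R) (D : Five R) {I : GLι} (hI : I ∈ R) (hII : I * I = -1)
    (hIc : ∀ s ∈ R, s * I = I * s) :
    ∃ y : GLι, y ∈ subgroupNormalizer R ∧ y * y = 1 ∧ (y : Mι).trace = 2 ∧ (∀ c : F, (y : Mι) ≠ c • 1) ∧
      ∀ f, SForm f → (∀ t ∈ R, IsIso f t) → IsIso f y := by
  set u := D.g 0 with hu
  set w := I * (D.g 1 * D.g 2) with hw
  have huR : u ∈ R := D.mem 0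
  have hwR : w ∈ R := R.mul_mem hI (R.mul_mem (D.mem 1) (D.mem 2))
  have cI : ∀ s ∈ R, ∀ t, s * (I * t) = I * (s * t) := fun s hs t => by rw [← mul_assoc, hIc s hs, mul_assoc]
  have hII' : ∀ t, I * (I * t) = -t := fun t => by rw [← mul_assoc, hII, neg_one_mul]
  have s1 : ∀ t, D.g 1 * (D.g 1 * t) = t := fun t => by rw [← mul_assoc, D.sq, one_mul]
  have s21 : ∀ t, D.g 2 * (D.g 1 * t) = -(D.g 1 * (D.g 2 * t)) := fun t => by
    rw [← mul_assoc, D.anti 2 1 (by decide), neg_mul, mul_assoc]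
  have huu : u * u = 1 := D.sq 0
  have hww : w * w = 1 := by
    simp only [hw, mul_assoc, cI _ (D.mem 1), cI _ (D.mem 2), hII', s21, mul_neg, s1, D.sq, neg_neg, mul_one, hII]
  have huw : u * w = w * u := by
    rw [hw, hu, cI _ (D.mem 0), ← mul_assoc (D.g 0), D.anti 0 1 (by decide), neg_mul, mul_assoc,
      D.anti 0 2 (by decide)]
    simp only [mul_assoc, mul_neg, neg_neg]
  clear_value w u
  have eu : (u : Mι) * u = 1 := congrArg Units.val huu
  have ew : (w : Mι) * w = 1 := congrArg Units.val hww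
  have euw : (w : Mι) * u = (u : Mι) * w := congrArg Units.val huw.symm
  set K : Mι := 1 + (u : Mι) + w - (u : Mι) * w with hK
  set M : Mι := (2 : F)⁻¹ • K with hM
  have ru : ∀ X : Mι, (u : Mι) * ((u : Mι) * X) = X := fun X => by rw [← mul_assoc, eu, one_mul]
  have rw' : ∀ X : Mι, (w : Mι) * ((w : Mι) * X) = X := fun X => by rw [← mul_assoc, ew, one_mul]
  have rc : ∀ X : Mι, (w : Mι) * ((u : Mι) * X) = (u : Mι) * ((w : Mι) * X) := fun X => by
    rw [← mul_assoc, euw, mul_assoc]
  have hKK : K * K = (4 : F) • 1 := by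
    rw [hK]
    simp only [mul_add, add_mul, mul_sub, sub_mul, mul_one, one_mul, mul_assoc, eu, ew, euw, ru, rw', rc]
    rw [show (4 : F) • (1 : Mι) = 1 + 1 + 1 + 1 by
      rw [show (4 : F) = 1 + 1 + 1 + 1 by norm_num]; simp [add_smul]]
    abel
  have hMM : M * M = 1 := by
    rw [hM, Matrix.smul_mul, Matrix.mul_smul, hKK, smul_smul, smul_smul]
    have := h.two
    rw [show (2 : F)⁻¹ * (2 : F)⁻¹ * 4 = 1 by field_simp; norm_num, one_smul]
  have t1 : (u : Mι).trace = 0 := trace_zero_of_anti h.two (s := D.g 1) (by rw [hu]; exact D.anti 1 0 (by decide))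
  have t2 : (w : Mι).trace = 0 := trace_zero_of_anti h.two (s := D.g 1) (by
    rw [hw, cI _ (D.mem 1), mul_assoc I (D.g 1 * D.g 2), mul_assoc (D.g 1), D.anti 2 1 (by decide), mul_neg,
      mul_neg, neg_neg])
  have t3 : ((u : Mι) * w).trace = 0 := by
    rw [← Units.val_mul]
    refine trace_zero_of_anti h.two (s := D.g 3) ?_
    rw [hu, hw, ← mul_assoc (D.g 3), D.anti 3 0 (by decide), neg_mul, mul_assoc (D.g 0), cI _ (D.mem 3),
      ← mul_assoc (D.g 3) (D.g 1), D.anti 3 1 (by decide), neg_mul, mul_assoc (D.g 1), D.anti 3 2 (by decide)]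
    simp only [mul_assoc, mul_neg, neg_neg]
  let y : GLι := ⟨M, M, hMM, hMM⟩
  refine ⟨y, D.mem_normalizer h fun k => ?_, Units.ext hMM, ?_, fun c hc => ?_, ?_⟩
  · have ht := D.mem k
    set t := D.g k with htk
    obtain ⟨m, hmR, hm⟩ : ∃ m ∈ R, K * (t : Mι) = (m : Mι) * K := by
      rcases h.comm t ht u huR with e1 | e1 <;> rcases h.comm t ht w hwR with e2 | e2
      · refine ⟨t, ht, ?_⟩
        have f1 : (t : Mι) * u = (u : Mι) * t := congrArg Units.val e1
        have f2 : (t : Mι) * w = (w : Mι) * t := congrArg Units.val e2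
        rw [hK]
        simp only [mul_add, add_mul, mul_sub, sub_mul, mul_one, one_mul, ← mul_assoc, f1, f2]
        simp only [mul_assoc, f2]
      · refine ⟨t * u, R.mul_mem ht huR, ?_⟩
        have f1 : (t : Mι) * u = (u : Mι) * t := congrArg Units.val e1
        have f2 : (w : Mι) * t = -((t : Mι) * w) := by
          rw [show (t : Mι) * w = -((w : Mι) * t) from congrArg Units.val e2, neg_neg]
        rw [hK, Units.val_mul]
        simp only [mul_add, add_mul, mul_sub, sub_mul, mul_one, one_mul, mul_assoc, f2, mul_neg, eu, ru, rc,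
          ← f1, ← mul_assoc (u : Mι) (t : Mι)]
        abel
      · refine ⟨t * w, R.mul_mem ht hwR, ?_⟩
        have f1 : (u : Mι) * t = -((t : Mι) * u) := by
          rw [show (t : Mι) * u = -((u : Mι) * t) from congrArg Units.val e1, neg_neg]
        have f2 : (w : Mι) * t = (t : Mι) * w := (congrArg Units.val e2).symm
        rw [hK, Units.val_mul]
        simp only [mul_add, add_mul, mul_sub, sub_mul, mul_one, one_mul, mul_assoc, f1, f2, mul_neg, neg_mul, ew,
          euw, rw', rc, ← mul_assoc (u : Mι) (t : Mι)]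
        abel
      · refine ⟨-(t * u * w), h.mem_neg (R.mul_mem (R.mul_mem ht huR) hwR), ?_⟩
        have f1 : (u : Mι) * t = -((t : Mι) * u) := by
          rw [show (t : Mι) * u = -((u : Mι) * t) from congrArg Units.val e1, neg_neg]
        have f2 : (w : Mι) * t = -((t : Mι) * w) := by
          rw [show (t : Mι) * w = -((w : Mι) * t) from congrArg Units.val e2, neg_neg]
        rw [hK, mat_neg, Units.val_mul, Units.val_mul]
        simp only [mul_add, add_mul, mul_sub, sub_mul, mul_one, one_mul, mul_assoc, f1, f2, mul_neg, neg_mul, eu,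
          ew, euw, ru, rw', rc, ← mul_assoc (u : Mι) (t : Mι)]
        abel
    have : y * t = m * y := Units.ext (by
      show M * (t : Mι) = (m : Mι) * M
      rw [hM, Matrix.smul_mul, Matrix.mul_smul, hm])
    rw [this, mul_inv_cancel_right]; exact hmR
  · show M.trace = 2
    rw [hM, hK, Matrix.trace_smul, Matrix.trace_sub, Matrix.trace_add, Matrix.trace_add, t1, t2, t3,
      Matrix.trace_one, h.card4, smul_eq_mul]
    have := h.two
    field_simp
    norm_num
  · have hyK : K = (2 * c) • (1 : Mι) := by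
      have e : M = c • (1 : Mι) := hc
      rw [← smul_smul, ← e, hM, smul_smul, mul_inv_cancel₀ h.two, one_smul]
    have e := congrArg (fun X => ((u : Mι) * X).trace) hyK
    simp only [Matrix.mul_smul, mul_one, Matrix.trace_smul, t1, smul_zero] at e
    rw [hK] at e
    simp only [mul_add, mul_sub, mul_one, ru, eu, Matrix.trace_add, Matrix.trace_sub, t1, t2, t3, Matrix.trace_one,
      h.card4] at e
    exact h.two (mul_self_eq_zero.mp (by push_cast at e; linear_combination e))
  · intro f hf hR a b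
    have au := self_adjoint (hR u huR) huu
    have aw := self_adjoint (hR w hwR) hww
    have key : ∀ a b, f (K *ᵥ a) b = f a (K *ᵥ b) := fun a b => by
      simp only [hK, Matrix.sub_mulVec, Matrix.add_mulVec, Matrix.one_mulVec, ← Matrix.mulVec_mulVec, hf.add_left,
        hf.add_right, hf.sub_left, hf.sub_right, au, aw]
      rw [Matrix.mulVec_mulVec, Matrix.mulVec_mulVec, euw]
    show f (M *ᵥ a) (M *ᵥ b) = f a b
    rw [hM, Matrix.smul_mulVec, Matrix.smul_mulVec, hf.smul_left, hf.smul_half, key, Matrix.mulVec_mulVec, hKK,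
      Matrix.smul_mulVec, Matrix.one_mulVec, show (4 : F) = ((4 : ℕ) : F) by norm_num, hf.smul_nat]
    have := h.two
    push_cast
    field_simp
    norm_num

end CfsgLib.SympFour
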