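import Cfsg.Prelude.Def_GeometricClasses
import Cfsg.Agent.SymplecticType.Structure
import Cfsg.Agent.ExtraspecialBasic.Order
import Mathlib

/-!
# Groups of symplectic type of order `2⁵` and `2⁶` in dimension four

The basic facts: squares and commutators are signs, non-central elements have trace zero, and there are five
pairwise anticommuting involutions which generate the group modulo its centre.
-/

set_option autoImplicit false
set_option linter.unusedSectionVars false

namespace CfsgLib.SympFour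

open Matrix Cfsg.Geo
open scoped commutatorElement

/-- In a `2`-group of symplectic type and exponent dividing four, squares and commutators are central. -/
theorem sq_comm_central {G : Type*} [Group G] [Finite G] (hp : IsPGroup 2 G)
    (hs : ∀ A : Subgroup G, A.Characteristic → IsMulCommutative A → IsCyclic A) (he : ∀ x : G, x ^ 4 = 1) :
    (∀ x : G, x ^ 2 ∈ Subgroup.center G) ∧ ∀ x y : G, ⁅x, y⁆ ∈ Subgroup.center G := by
  haveI : Fact (Nat.Prime 2) := ⟨Nat.prime_two⟩
  obtain ⟨E, R, hER, hsup, hE, hR⟩ := CfsgLib.SymplecticType.hasStructure hp hs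
  have hord : ∀ x : R, orderOf x ≤ 4 := fun x =>
    Nat.le_of_dvd (by norm_num) (orderOf_dvd_of_pow_eq_one (Subtype.ext (he x)))
  have hRc : IsCyclic R := by
    refine hR.resolve_right ?_
    rintro ⟨-, h16, ⟨m, ⟨e⟩⟩ | ⟨m, ⟨e⟩⟩ | ⟨n, hn, -, x, -, hx, -, -⟩⟩
    · have h := hord (e.symm (DihedralGroup.r 1))
      rw [MulEquiv.orderOf_eq, DihedralGroup.orderOf_r_one] at h
      have hc := Nat.card_congr e.toEquiv
      rw [DihedralGroup.nat_card] at hc
      omega
    · have hc := Nat.card_congr e.toEquiv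
      rcases Nat.eq_zero_or_pos m with rfl | hm
      · haveI : Finite (QuaternionGroup 0) := Finite.of_equiv _ e.toEquiv
        haveI : Infinite (QuaternionGroup 0) :=
          Infinite.of_injective (fun i : ℤ => (QuaternionGroup.a i : QuaternionGroup 0)) fun _ _ h => QuaternionGroup.a.inj h
        exact not_finite (QuaternionGroup 0)
      haveI : NeZero m := ⟨hm.ne'⟩
      have h := hord (e.symm (QuaternionGroup.a 1))
      rw [MulEquiv.orderOf_eq, QuaternionGroup.orderOf_a_one] at h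
      rw [Nat.card_eq_fintype_card (α := QuaternionGroup m), QuaternionGroup.card] at hc
      omega
    · have h := hord x
      rw [hx] at h
      have := Nat.pow_le_pow_right (show 2 > 0 by norm_num) hn
      omega
  have hcomR : ∀ a ∈ R, ∀ b ∈ R, a * b = b * a := fun a ha b hb => by
    haveI := hRc
    exact congrArg Subtype.val ((IsCyclic.commutative (α := R)).is_comm.comm ⟨a, ha⟩ ⟨b, hb⟩)
  have hdec : ∀ x : G, ∃ e ∈ E, ∃ r ∈ R, x = e * r := by
    intro x
    have hx : x ∈ E ⊔ R := hsup ▸ Subgroup.mem_top x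
    have hnorm : R ≤ Subgroup.normalizer (E : Set G) := fun r hr => by
      refine Subgroup.mem_normalizer_iff.mpr fun e => ⟨fun he' => ?_, fun he' => ?_⟩
      · rw [← hER e he' r hr, mul_inv_cancel_right]; exact he'
      · have := hER _ he' r hr
        rw [inv_mul_cancel_right] at this
        have e1 : e = r * e * r⁻¹ := mul_left_cancel this
        exact e1 ▸ he'
    rw [← SetLike.mem_coe, Subgroup.coe_mul_of_right_le_normalizer_left E R hnorm, Set.mem_mul] at hx
    obtain ⟨e, he', r, hr, h⟩ := hx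
    exact ⟨e, he', r, hr, h.symm⟩
  have hZR : R ≤ Subgroup.center G := fun r hr => Subgroup.mem_center_iff.mpr fun x => by
    obtain ⟨e, he', r', hr', rfl⟩ := hdec x
    rw [mul_assoc, hcomR r' hr' r hr, ← mul_assoc, hER e he' r hr, mul_assoc]
  have hZE : ∀ z : E, z ∈ Subgroup.center E → (z : G) ∈ Subgroup.center G := fun z hz => by
    refine Subgroup.mem_center_iff.mpr fun x => ?_
    obtain ⟨e, he', r, hr, rfl⟩ := hdec x
    have ez : e * (z : G) = z * e := congrArg Subtype.val (Subgroup.mem_center_iff.mp hz ⟨e, he'⟩)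
    rw [mul_assoc, ← hER z z.2 r hr, ← mul_assoc, ez, mul_assoc]
  constructor
  · intro x
    obtain ⟨e, he', r, hr, rfl⟩ := hdec x
    rw [(show Commute e r from hER e he' r hr).mul_pow]
    refine mul_mem ?_ (pow_mem (hZR hr) 2)
    rcases hE with rfl | hE
    · rw [Subgroup.mem_bot.mp he', one_pow]; exact one_mem _
    · exact hZE _ (CfsgLib.ExtraspecialBasic.pow_mem_center hE ⟨e, he'⟩)
  · intro x y
    obtain ⟨e, he', r, hr, rfl⟩ := hdec x
    obtain ⟨f, hf, s, hs', rfl⟩ := hdec y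
    have hr' := Subgroup.mem_center_iff.mp (hZR hr)
    have hs'' := Subgroup.mem_center_iff.mp (hZR hs')
    have key : ⁅e * r, f * s⁆ = ⁅e, f⁆ := by
      simp only [commutatorElement_def, _root_.mul_inv_rev]
      calc e * r * (f * s) * (r⁻¹ * e⁻¹) * (s⁻¹ * f⁻¹)
          = e * (r * (f * s)) * (r⁻¹ * e⁻¹) * (s⁻¹ * f⁻¹) := by group
        _ = e * f * (s * e⁻¹) * (s⁻¹ * f⁻¹) := by rw [← hr']; group
        _ = e * f * e⁻¹ * f⁻¹ := by rw [← hs'']; group
    rw [key]
    rcases hE with rfl | hE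
    · rw [Subgroup.mem_bot.mp he', commutatorElement_one_left]; exact one_mem _
    · exact hZE _ (CfsgLib.ExtraspecialBasic.commutator_mem_center hE ⟨e, he'⟩ ⟨f, hf⟩)

variable {ι : Type} [Fintype ι] [DecidableEq ι] {F : Type*} [Field F]

/-- The standing hypotheses. -/
structure Ctx (R : Subgroup (GL ι F)) : Prop where
  two : (2 : F) ≠ 0
  card4 : Fintype.card ι = 4
  absIrred : ActsAbsolutelyIrreducibly (matrixSet R)
  fin : Finite R
  negMem : (-1 : GL ι F) ∈ R
  sq : ∀ t ∈ R, t * t = 1 ∨ t * t = -1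
  comm : ∀ s ∈ R, ∀ t ∈ R, s * t = t * s ∨ s * t = -(t * s)
  card : Nat.card R = 16 * Nat.card (Subgroup.center R)

theorem mat_neg (x : GL ι F) : ((-x : GL ι F) : Matrix ι ι F) = -(x : Matrix ι ι F) := rfl

theorem Ctx.ne_neg {R : Subgroup (GL ι F)} (h : Ctx R) (x : GL ι F) : x ≠ -x := fun e => by
  haveI : Nonempty ι := Fintype.card_pos_iff.mp (by rw [h.card4]; norm_num)
  have e1 : (1 : GL ι F) = -1 := by
    have e2 := congrArg (fun y => x⁻¹ * y) e
    simp only [inv_mul_cancel, mul_neg] at e2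
    exact e2
  have e' : (1 : Matrix ι ι F) = -1 := congrArg Units.val e1
  obtain ⟨i⟩ := (inferInstance : Nonempty ι)
  have := congrFun (congrFun e' i) i
  simp at this
  exact h.two (by linear_combination this)

/-- A central element of an absolutely irreducible group is scalar. -/
theorem scalar_of_commute {R : Subgroup (GL ι F)} (h : ActsAbsolutelyIrreducibly (matrixSet R)) {M : Matrix ι ι F}
    (hM : ∀ t ∈ R, M * (t : Matrix ι ι F) = (t : Matrix ι ι F) * M) : ∃ c : F, M = c • 1 :=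
  h.2 M fun s hs => by obtain ⟨t, ht, rfl⟩ := hs; exact hM t ht

theorem val_pow_exponent {R : Subgroup (GL ι F)} (he : Monoid.exponent R = 4) {t : GL ι F} (ht : t ∈ R) :
    t ^ 4 = 1 := congrArg Subtype.val (he ▸ Monoid.pow_exponent_eq_one (⟨t, ht⟩ : R))

theorem scalarGL_sq {c : F} (hc : c * c = 1) {z : GL ι F} (hz : (z : Matrix ι ι F) = c • 1) :
    z = 1 ∨ z = -1 := by
  rcases mul_self_eq_one_iff.mp hc with rfl | rfl
  · exact Or.inl (Units.ext (by rw [hz, one_smul]; rfl))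
  · exact Or.inr (Units.ext (by rw [hz, neg_one_smul]; rfl))

theorem ctx_of_symplecticType (h2 : (2 : F) ≠ 0) (h4 : Fintype.card ι = 4) {R : Subgroup (GL ι F)}
    (hs : IsSymplecticTypeGroup 2 R) (hi : ActsAbsolutelyIrreducibly (matrixSet R))
    (hc : Nat.card R = 16 * Nat.card (Subgroup.center R)) (hpos : 0 < Nat.card R)
    (hcZ : 2 ∣ Nat.card (Subgroup.center R)) : Ctx R := by
  haveI : Finite R := Nat.finite_of_card_ne_zero hpos.ne'
  haveI : Fact (Nat.Prime 2) := ⟨Nat.prime_two⟩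
  haveI : Nonempty ι := Fintype.card_pos_iff.mp (by rw [h4]; norm_num)
  have he : Monoid.exponent R = 4 := by rw [hs.exponent_eq]; norm_num
  obtain ⟨hsq, hcm⟩ := sq_comm_central (G := R) hs.pGroup hs.cyclic_of_characteristic fun x => by
    rw [← he]; exact Monoid.pow_exponent_eq_one x
  have hscal : ∀ z : R, z ∈ Subgroup.center R → ∃ c : F, ((z : GL ι F) : Matrix ι ι F) = c • 1 := fun z hz =>
    scalar_of_commute hi fun t ht => by
      have := congrArg Subtype.val (Subgroup.mem_center_iff.mp hz ⟨t, ht⟩)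
      exact (congrArg Units.val this).symm
  have hsign : ∀ z : R, z ∈ Subgroup.center R → z * z = 1 → (z : GL ι F) = 1 ∨ (z : GL ι F) = -1 := by
    intro z hz hzz
    obtain ⟨c, hzc⟩ := hscal z hz
    refine scalarGL_sq ?_ hzc
    have e : ((z : GL ι F) : Matrix ι ι F) * (z : GL ι F) = 1 := by
      rw [← Units.val_mul, ← Subgroup.coe_mul, hzz]; rfl
    obtain ⟨i⟩ := (inferInstance : Nonempty ι)
    have := congrFun (congrFun e i) i
    simpa [hzc] using this
  refine ⟨h2, h4, hi, inferInstance, ?_, fun t ht => ?_, fun s hs' t ht => ?_, hc⟩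
  · obtain ⟨z, hz⟩ := exists_prime_orderOf_dvd_card' (G := Subgroup.center R) 2 hcZ
    have hz1 : ((z : R) : GL ι F) ≠ 1 := fun e => by
      have : z = 1 := Subtype.ext (Subtype.ext e)
      rw [this, orderOf_one] at hz; omega
    have := hsign (z : R) z.2 (by
      have := pow_orderOf_eq_one z
      rw [hz, pow_two] at this
      exact congrArg Subtype.val this)
    rw [← this.resolve_left hz1]
    exact (z : R).2
  · have := hsign _ (hsq ⟨t, ht⟩) (by
      rw [← pow_two, ← pow_mul, show (2 * 2) = Monoid.exponent R by rw [he]]; exact Monoid.pow_exponent_eq_one _)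
    simpa [pow_two] using this
  · set a : R := ⟨s, hs'⟩
    set b : R := ⟨t, ht⟩
    have hab : a * b = ⁅a, b⁆ * (b * a) := by rw [commutatorElement_def]; group
    have hz := hcm a b
    have h2' : ⁅a, b⁆ * ⁅a, b⁆ = 1 := by
      have hba : a * b * a⁻¹ = ⁅a, b⁆ * b := by rw [commutatorElement_def]; group
      have e1 : (a * b * a⁻¹) ^ 2 = b ^ 2 := by
        rw [conj_pow, (Subgroup.mem_center_iff.mp (hsq b) a), mul_inv_cancel_right]
      rw [hba, (show Commute ⁅a, b⁆ b from (Subgroup.mem_center_iff.mp hz b).symm).mul_pow,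
        mul_eq_right, pow_two] at e1
      exact e1
    have := congrArg Subtype.val hab
    simp only [Subgroup.coe_mul, a, b] at this
    rcases hsign _ hz h2' with e | e <;> rw [e] at this
    · exact Or.inl (by rw [this, one_mul])
    · exact Or.inr (by rw [this, neg_one_mul])

variable {R : Subgroup (GL ι F)}

theorem Ctx.mem_neg (h : Ctx R) {t : GL ι F} (ht : t ∈ R) : -t ∈ R := by
  rw [← neg_one_mul]; exact R.mul_mem h.negMem ht

theorem Ctx.inv_eq (h : Ctx R) {t : GL ι F} (ht : t ∈ R) : t⁻¹ = t ∨ t⁻¹ = -t := by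
  rcases h.sq t ht with e | e
  · exact Or.inl (inv_eq_of_mul_eq_one_right e)
  · exact Or.inr (inv_eq_of_mul_eq_one_right (by rw [mul_neg, e, neg_neg]))

/-- Either scalar, or anticommuting with some element. -/
theorem Ctx.scalar_or_anti (h : Ctx R) {t : GL ι F} (ht : t ∈ R) :
    (∃ c : F, (t : Matrix ι ι F) = c • 1) ∨ ∃ s ∈ R, s * t = -(t * s) := by
  by_contra hc
  push Not at hc
  obtain ⟨c, hc'⟩ := scalar_of_commute h.absIrred (M := (t : Matrix ι ι F)) fun s hs => by
    rw [← Units.val_mul, ← Units.val_mul, (h.comm s hs t ht).resolve_right (hc.2 s hs)]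
  exact hc.1 c hc'

theorem trace_zero_of_anti (h2 : (2 : F) ≠ 0) {s t : GL ι F} (h : s * t = -(t * s)) :
    (t : Matrix ι ι F).trace = 0 := by
  have e : (s : Matrix ι ι F) * t * ((s⁻¹ : GL ι F) : Matrix ι ι F) = -(t : Matrix ι ι F) := by
    rw [← Units.val_mul, h, mat_neg, Units.val_mul, Matrix.neg_mul, Matrix.mul_assoc, ← Units.val_mul,
      mul_inv_cancel, Units.val_one, Matrix.mul_one]
  have := congrArg Matrix.trace e
  rw [Matrix.trace_units_conj, Matrix.trace_neg] at this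
  have h0 : (2 : F) * (t : Matrix ι ι F).trace = 0 := by linear_combination this
  exact (mul_eq_zero.mp h0).resolve_left h2

theorem Ctx.center_iff (h : Ctx R) (t : R) :
    t ∈ Subgroup.center R ↔ ∀ s ∈ R, s * (t : GL ι F) = (t : GL ι F) * s := by
  rw [Subgroup.mem_center_iff]
  exact ⟨fun e s hs => congrArg Subtype.val (e ⟨s, hs⟩), fun e s => Subtype.ext (e s s.2)⟩

/-- The elements of a subgroup commuting with a given one, when some element anticommutes. -/
theorem Ctx.card_inf_centralizer (h : Ctx R) {H : Subgroup (GL ι F)} (hH : H ≤ R) {t : GL ι F} (ht : t ∈ R)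
    {s : GL ι F} (hs : s ∈ H) (hst : s * t = -(t * s)) :
    2 * Nat.card ↥(H ⊓ Subgroup.centralizer ({t} : Set (GL ι F))) = Nat.card H := by
  haveI := h.fin
  haveI : Finite H := Finite.of_injective _ (Subgroup.inclusion_injective hH)
  set K := H ⊓ Subgroup.centralizer ({t} : Set (GL ι F)) with hK
  have hidx : K.relIndex H = 2 := by
    rw [Subgroup.relIndex, Subgroup.index_eq_two_iff']
    refine ⟨⟨s, hs⟩, fun b => ?_⟩
    simp only [Subgroup.mem_subgroupOf, Subgroup.coe_mul, hK, Subgroup.mem_inf,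
      Subgroup.mem_centralizer_singleton_iff]
    rcases h.comm (b : GL ι F) (hH b.2) t ht with hb | hb
    · refine Or.inr ⟨⟨b.2, hb⟩, fun hn => h.ne_neg (t * (s * b)) ?_⟩
      calc t * (s * b) = s * b * t := hn.2.symm
        _ = s * (t * b) := by rw [mul_assoc, hb]
        _ = -(t * (s * b)) := by rw [← mul_assoc, hst, neg_mul, mul_assoc]
    · refine Or.inl ⟨⟨H.mul_mem hs b.2, ?_⟩, fun hn => h.ne_neg (t * b) ?_⟩
      · rw [mul_assoc, hb, mul_neg, ← mul_assoc, hst, neg_mul, neg_neg, mul_assoc]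
      · exact hn.2.symm.trans hb
  have := Subgroup.card_mul_index (K.subgroupOf H)
  rw [Nat.card_congr (Subgroup.subgroupOfEquivOfLe (inf_le_left : K ≤ H)).toEquiv] at this
  rw [← this, ← Subgroup.relIndex, hidx, mul_comm]

/-- Five pairwise anticommuting involutions generating modulo the centre. -/
structure Five (R : Subgroup (GL ι F)) where
  g : Fin 5 → GL ι F
  mem : ∀ k, g k ∈ R
  sq : ∀ k, g k * g k = 1
  anti : ∀ i j, i ≠ j → g i * g j = -(g j * g i)
  gen : ∀ t ∈ R, t ∈ Subgroup.closure (Set.range g ∪ {z | z ∈ R ∧ ∀ s ∈ R, s * z = z * s})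

theorem Five.scalar_of_commute (h : Ctx R) (D : Five R) {M : Matrix ι ι F}
    (hM : ∀ k, M * (D.g k : Matrix ι ι F) = (D.g k : Matrix ι ι F) * M) : ∃ c : F, M = c • 1 := by
  refine CfsgLib.SympFour.scalar_of_commute h.absIrred fun t ht => ?_
  have key := D.gen t ht
  clear ht
  induction key using Subgroup.closure_induction with
  | mem x hx =>
    rcases hx with ⟨k, rfl⟩ | ⟨hxR, hx⟩
    · exact hM k
    · obtain ⟨c, hc⟩ := CfsgLib.SympFour.scalar_of_commute h.absIrred (M := (x : Matrix ι ι F)) fun s hs => by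
        rw [← Units.val_mul, ← Units.val_mul, hx s hs]
      rw [hc]; simp
  | one => simp
  | mul x y _ _ hx hy =>
    rw [Units.val_mul, ← mul_assoc, hx, mul_assoc, hy, mul_assoc]
  | inv x _ hx =>
    calc M * ((x⁻¹ : GL ι F) : Matrix ι ι F)
        = ((x⁻¹ : GL ι F) : Matrix ι ι F) * ((x : Matrix ι ι F) * M) * ((x⁻¹ : GL ι F) : Matrix ι ι F) := by
          rw [← mul_assoc, ← Units.val_mul, inv_mul_cancel, Units.val_one, one_mul]
      _ = _ := by rw [← hx, mul_assoc, mul_assoc, ← Units.val_mul, mul_inv_cancel, Units.val_one, mul_one]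

/-- Five involutions from two commuting pairs. -/
theorem five_of_pairs (h : Ctx R) {A B X Z : GL ι F} (hA : A ∈ R) (hB : B ∈ R) (hX : X ∈ R) (hZ : Z ∈ R)
    (hAA : A * A = -1) (hBB : B * B = -1) (hXX : X * X = 1) (hZZ : Z * Z = 1)
    (hBA : B * A = -(A * B)) (hZX : Z * X = -(X * Z))
    (hXA : X * A = A * X) (hXB : X * B = B * X) (hZA : Z * A = A * Z) (hZB : Z * B = B * Z) :
    Nonempty (Five R) := by
  haveI := h.fin
  have r1 : ∀ t, A * (A * t) = -t := fun t => by rw [← mul_assoc, hAA, neg_one_mul]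
  have r2 : ∀ t, B * (B * t) = -t := fun t => by rw [← mul_assoc, hBB, neg_one_mul]
  have r3 : ∀ t, X * (X * t) = t := fun t => by rw [← mul_assoc, hXX, one_mul]
  have r4 : ∀ t, Z * (Z * t) = t := fun t => by rw [← mul_assoc, hZZ, one_mul]
  have r5 : ∀ t, B * (A * t) = -(A * (B * t)) := fun t => by rw [← mul_assoc, hBA, neg_mul, mul_assoc]
  have r6 : ∀ t, Z * (X * t) = -(X * (Z * t)) := fun t => by rw [← mul_assoc, hZX, neg_mul, mul_assoc]
  have r7 : ∀ t, X * (A * t) = A * (X * t) := fun t => by rw [← mul_assoc, hXA, mul_assoc]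
  have r8 : ∀ t, X * (B * t) = B * (X * t) := fun t => by rw [← mul_assoc, hXB, mul_assoc]
  have r9 : ∀ t, Z * (A * t) = A * (Z * t) := fun t => by rw [← mul_assoc, hZA, mul_assoc]
  have r10 : ∀ t, Z * (B * t) = B * (Z * t) := fun t => by rw [← mul_assoc, hZB, mul_assoc]
  -- the common centraliser
  let C : GL ι F → Subgroup (GL ι F) := fun t => Subgroup.centralizer ({t} : Set (GL ι F))
  have mC : ∀ {s t : GL ι F}, s * t = t * s → s ∈ C t := fun e => Subgroup.mem_centralizer_singleton_iff.mpr e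
  have c1 := h.card_inf_centralizer le_rfl hX (s := Z) hZ hZX
  have c2 := h.card_inf_centralizer (H := R ⊓ C X) inf_le_left hZ (s := X) ⟨hX, mC rfl⟩ (by rw [hZX, neg_neg])
  have c3 := h.card_inf_centralizer (H := R ⊓ C X ⊓ C Z) (inf_le_left.trans inf_le_left) hA (s := B)
    ⟨⟨hB, mC hXB.symm⟩, mC hZB.symm⟩ hBA
  have c4 := h.card_inf_centralizer (H := R ⊓ C X ⊓ C Z ⊓ C A)
    (inf_le_left.trans (inf_le_left.trans inf_le_left)) hB (s := A)
    ⟨⟨⟨hA, mC hXA.symm⟩, mC hZA.symm⟩, mC rfl⟩ (by rw [hBA, neg_neg])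
  set K : Subgroup (GL ι F) := R ⊓ C X ⊓ C Z ⊓ C A ⊓ C B with hK
  have hKR : K ≤ R := ((inf_le_left.trans inf_le_left).trans inf_le_left).trans inf_le_left
  have hKZ : ∀ u ∈ K, ∀ s ∈ R, s * u = u * s := by
    let Z' := (Subgroup.center R).map R.subtype
    have hle : Z' ≤ K := by
      rintro _ ⟨z, hz, rfl⟩
      have := (h.center_iff z).mp hz
      exact ⟨⟨⟨⟨z.2, mC (this X hX).symm⟩, mC (this Z hZ).symm⟩, mC (this A hA).symm⟩, mC (this B hB).symm⟩
    haveI : Finite K := Finite.of_injective _ (Subgroup.inclusion_injective hKR)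
    have heq : Z' = K := Subgroup.eq_of_le_of_card_ge hle (by
      rw [Subgroup.card_map_of_injective R.subtype_injective]
      have := h.card
      simp only [C] at c1 c2 c3 c4
      simp only [K, C] at c1 c2 c3 c4 ⊢
      omega)
    intro u hu
    rw [← heq] at hu
    obtain ⟨z, hz, rfl⟩ := hu
    exact (h.center_iff z).mp hz
  refine ⟨⟨![X, Z, A * (X * Z), B * (X * Z), A * B * (X * Z)], ?_, ?_, ?_, ?_⟩⟩
  · intro k; fin_cases k <;>
      simp only [Fin.isValue, Matrix.cons_val_zero, Matrix.cons_val_one, Matrix.cons_val] <;>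
      first | assumption | exact R.mul_mem (by first | assumption | exact R.mul_mem hA hB) (R.mul_mem hX hZ)
  · intro k; fin_cases k <;>
      simp [mul_assoc, mul_neg, neg_mul, r1, r2, r3, r4, r5, r6, r7, r8, r9, r10, hAA, hBB, hXX, hZZ, hBA, hZX,
        hXA, hXB, hZA, hZB]
  · intro i j hij; fin_cases i <;> fin_cases j <;> first | exact absurd rfl hij |
      simp [mul_assoc, mul_neg, neg_mul, r1, r2, r3, r4, r5, r6, r7, r8, r9, r10, hAA, hBB, hXX, hZZ, hBA, hZX,
        hXA, hXB, hZA, hZB]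
  · intro t ht
    set L := Subgroup.closure
      (Set.range (![X, Z, A * (X * Z), B * (X * Z), A * B * (X * Z)] : Fin 5 → GL ι F) ∪
        {z | z ∈ R ∧ ∀ s ∈ R, s * z = z * s}) with hL
    have hg : ∀ k, (![X, Z, A * (X * Z), B * (X * Z), A * B * (X * Z)] : Fin 5 → GL ι F) k ∈ L := fun k =>
      Subgroup.subset_closure (Or.inl ⟨k, rfl⟩)
    have hXL : X ∈ L := hg 0
    have hZL : Z ∈ L := hg 1
    have hAL : A ∈ L := (mul_mem_cancel_right (L.mul_mem hXL hZL)).mp (hg 2)
    have hBL : B ∈ L := (mul_mem_cancel_right (L.mul_mem hXL hZL)).mp (hg 3)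
    have step : ∀ (t : GL ι F) (s u : GL ι F), t ∈ R → s ∈ R → u ∈ R → u * s = -(s * u) →
        t * s = s * t ∨ (t * u) * s = s * (t * u) := by
      intro t s u ht hs hu hus
      refine (h.comm t ht s hs).imp id fun e => ?_
      rw [mul_assoc, hus, mul_neg, ← mul_assoc, e, neg_mul, neg_neg, mul_assoc]
    -- adjust one generator at a time
    obtain ⟨t₁, ht₁, hL₁, hX₁⟩ : ∃ t₁ ∈ R, (t₁ ∈ L → t ∈ L) ∧ t₁ * X = X * t₁ := by
      rcases step t X Z ht hX hZ hZX with e | e
      · exact ⟨t, ht, id, e⟩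
      · exact ⟨_, R.mul_mem ht hZ, (mul_mem_cancel_right hZL).mp, e⟩
    obtain ⟨t₂, ht₂, hL₂, hX₂, hZ₂⟩ : ∃ t₂ ∈ R, (t₂ ∈ L → t ∈ L) ∧ t₂ * X = X * t₂ ∧ t₂ * Z = Z * t₂ := by
      rcases step t₁ Z X ht₁ hZ hX (by rw [hZX, neg_neg]) with e | e
      · exact ⟨t₁, ht₁, hL₁, hX₁, e⟩
      · exact ⟨_, R.mul_mem ht₁ hX, fun m => hL₁ ((mul_mem_cancel_right hXL).mp m),
          by rw [mul_assoc, ← mul_assoc X, ← hX₁, mul_assoc], e⟩
    obtain ⟨t₃, ht₃, hL₃, hX₃, hZ₃, hA₃⟩ : ∃ t₃ ∈ R, (t₃ ∈ L → t ∈ L) ∧ t₃ * X = X * t₃ ∧ t₃ * Z = Z * t₃ ∧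
        t₃ * A = A * t₃ := by
      rcases step t₂ A B ht₂ hA hB hBA with e | e
      · exact ⟨t₂, ht₂, hL₂, hX₂, hZ₂, e⟩
      · exact ⟨_, R.mul_mem ht₂ hB, fun m => hL₂ ((mul_mem_cancel_right hBL).mp m),
          by rw [mul_assoc, ← hXB, ← mul_assoc, hX₂, mul_assoc],
          by rw [mul_assoc, ← hZB, ← mul_assoc, hZ₂, mul_assoc], e⟩
    obtain ⟨t₄, ht₄, hL₄, hK₄⟩ : ∃ t₄ ∈ R, (t₄ ∈ L → t ∈ L) ∧ t₄ ∈ K := by
      rcases step t₃ B A ht₃ hB hA (by rw [hBA, neg_neg]) with e | e
      · exact ⟨t₃, ht₃, hL₃, ⟨⟨⟨⟨ht₃, mC hX₃⟩, mC hZ₃⟩, mC hA₃⟩, mC e⟩⟩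
      · exact ⟨_, R.mul_mem ht₃ hA, fun m => hL₃ ((mul_mem_cancel_right hAL).mp m), ⟨⟨⟨⟨R.mul_mem ht₃ hA,
          mC (by rw [mul_assoc, ← hXA, ← mul_assoc, hX₃, mul_assoc])⟩,
          mC (by rw [mul_assoc, ← hZA, ← mul_assoc, hZ₃, mul_assoc])⟩,
          mC (by rw [mul_assoc, ← mul_assoc A, ← hA₃, mul_assoc])⟩, mC e⟩⟩
    exact hL₄ (Subgroup.subset_closure (Or.inr ⟨ht₄, hKZ _ hK₄⟩))

theorem center_four_scalar (h : Ctx R) (hZ : Nat.card (Subgroup.center R) = 4) :
    ∃ I ∈ R, I * I = -1 ∧ ∀ s ∈ R, s * I = I * s := by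
  haveI := h.fin
  by_contra hc
  push Not at hc
  have hall : ∀ z : R, z ∈ Subgroup.center R → (z : GL ι F) = 1 ∨ (z : GL ι F) = -1 := by
    intro z hz
    haveI : Nonempty ι := Fintype.card_pos_iff.mp (by rw [h.card4]; norm_num)
    obtain ⟨c, hzc⟩ := scalar_of_commute h.absIrred (M := ((z : GL ι F) : Matrix ι ι F)) fun t ht => by
      rw [← Units.val_mul, ← Units.val_mul, (h.center_iff z).mp hz t ht]
    rcases h.sq z z.2 with e | e
    · refine scalarGL_sq ?_ hzc
      obtain ⟨i⟩ := (inferInstance : Nonempty ι)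
      have e' : ((z : GL ι F) : Matrix ι ι F) * (z : GL ι F) = 1 := congrArg Units.val e
      have := congrFun (congrFun e' i) i
      simpa [hzc] using this
    · obtain ⟨s, hs, hne⟩ := hc z z.2 e
      exact absurd ((h.center_iff z).mp hz s hs) hne
  have hle : Nat.card (Subgroup.center R) ≤ 2 := by
    classical
    refine le_trans (Nat.card_le_card_of_injective (β := Bool)
      (fun z => decide (((z : R) : GL ι F) = 1)) fun a b e => ?_) (by simp)
    have ha := hall a a.2
    have hb := hall b b.2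
    simp only [decide_eq_decide] at e
    apply Subtype.ext; apply Subtype.ext
    rcases ha with ha | ha
    · rw [ha, e.mp ha]
    · rcases hb with hb | hb
      · rw [e.mpr hb, hb]
      · rw [ha, hb]
  omega

/-- An element of `R` that is neither central nor in the given list exists by counting. -/
theorem exists_noncentral_sq (h : Ctx R) {H : Subgroup (GL ι F)} (hH : H ≤ R)
    (hc : Nat.card (Subgroup.center R) < Nat.card H) : ∃ t ∈ H, ∃ s ∈ R, s * t = -(t * s) := by
  haveI := h.fin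
  by_contra hn
  push Not at hn
  have : Nat.card H ≤ Nat.card (Subgroup.center R) := by
    refine Nat.card_le_card_of_injective (fun t : H => (⟨⟨t, hH t.2⟩, (h.center_iff _).mpr fun s hs =>
      (h.comm s hs t (hH t.2)).resolve_right (hn t t.2 s hs)⟩ : Subgroup.center R)) fun a b e => ?_
    exact Subtype.ext (congrArg (fun z : Subgroup.center R => ((z : R) : GL ι F)) e)
  omega

/-- A pair of anticommuting elements with a prescribed involution. -/
theorem exists_partner (h : Ctx R) {t : GL ι F} (ht : t ∈ R) (htt : t * t = 1) (hna : ∃ s ∈ R, s * t = -(t * s)) :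
    ∃ X ∈ R, X * X = 1 ∧ t * X = -(X * t) := by
  obtain ⟨s, hs, hst⟩ := hna
  have hts : t * s = -(s * t) := by rw [hst, neg_neg]
  rcases h.sq s hs with e | e
  · exact ⟨s, hs, e, hts⟩
  · refine ⟨s * t, R.mul_mem hs ht, ?_, ?_⟩
    · calc s * t * (s * t) = s * (t * s) * t := by simp only [mul_assoc]
        _ = -((s * s) * (t * t)) := by rw [hts, mul_neg, neg_mul]; simp only [mul_assoc]
        _ = 1 := by rw [e, htt, mul_one, neg_neg]
    · rw [← mul_assoc, hts, neg_mul]

/-- An anticommuting pair inside the centraliser of a given pair. -/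
theorem exists_pair (h : Ctx R) {X Z : GL ι F} (hX : X ∈ R) (hZ : Z ∈ R) (hZX : Z * X = -(X * Z)) :
    ∃ A ∈ R, ∃ B ∈ R, B * A = -(A * B) ∧ X * A = A * X ∧ X * B = B * X ∧ Z * A = A * Z ∧ Z * B = B * Z := by
  haveI := h.fin
  let C : GL ι F → Subgroup (GL ι F) := fun t => Subgroup.centralizer ({t} : Set (GL ι F))
  have c1 := h.card_inf_centralizer le_rfl hX (s := Z) hZ hZX
  have c2 := h.card_inf_centralizer (H := R ⊓ C X) inf_le_left hZ (s := X)
    ⟨hX, Subgroup.mem_centralizer_singleton_iff.mpr rfl⟩ (by rw [hZX, neg_neg])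
  have hpos : 0 < Nat.card (Subgroup.center R) := Nat.card_pos
  obtain ⟨A, hA, s, hs, hsA⟩ := exists_noncentral_sq h (H := R ⊓ C X ⊓ C Z) (inf_le_left.trans inf_le_left) (by
    have := h.card
    simp only [C] at c1 c2 ⊢
    omega)
  obtain ⟨⟨hAR, hAX⟩, hAZ⟩ := hA
  replace hAX := Subgroup.mem_centralizer_singleton_iff.mp hAX
  replace hAZ := Subgroup.mem_centralizer_singleton_iff.mp hAZ
  have fix : ∀ (b : GL ι F) (P Q : GL ι F), b ∈ R → P ∈ R → Q ∈ R → b * A = -(A * b) → P * A = A * P →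
      P * Q = -(Q * P) → ∃ b' ∈ R, b' * A = -(A * b') ∧ b' * Q = Q * b' ∧ (b' = b ∨ b' = b * P) := by
    intro b P Q hb hP hQ hbA hPA hPQ
    rcases h.comm b hb Q hQ with e | e
    · exact ⟨b, hb, hbA, e, Or.inl rfl⟩
    · exact ⟨b * P, R.mul_mem hb hP, by rw [mul_assoc, hPA, ← mul_assoc, hbA, neg_mul, mul_assoc],
        by rw [mul_assoc, hPQ, mul_neg, ← mul_assoc, e, neg_mul, neg_neg, mul_assoc], Or.inr rfl⟩
  obtain ⟨b, hb, hbA, hbX, -⟩ := fix s Z X hs hZ hX hsA hAZ.symm hZX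
  obtain ⟨b', hb', hbA', hbZ, he⟩ := fix b X Z hb hX hZ hbA hAX.symm (by rw [hZX, neg_neg])
  have hbX' : b' * X = X * b' := by
    rcases he with rfl | rfl
    · exact hbX
    · rw [mul_assoc, ← mul_assoc X, ← hbX, mul_assoc]
  exact ⟨A, hAR, b', hb', hbA', hAX.symm, hbX'.symm, hAZ.symm, hbZ.symm⟩

theorem exists_five_of_involution (h : Ctx R) {Z : GL ι F} (hZ : Z ∈ R) (hZZ : Z * Z = 1)
    (hna : ∃ s ∈ R, s * Z = -(Z * s))
    (hsq : ∀ {X A : GL ι F}, X ∈ R → A ∈ R → X * X = 1 → A * A = 1 → X * A = A * X →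
      (∃ s ∈ R, s * X = X * s ∧ s * A = -(A * s)) → (∃ s ∈ R, s * X = -(X * s)) →
      ∃ I ∈ R, I * I = -1 ∧ ∀ s ∈ R, s * I = I * s) :
    Nonempty (Five R) := by
  obtain ⟨X, hX, hXX, hZX⟩ := exists_partner h hZ hZZ hna
  obtain ⟨A, hA, B, hB, hBA, hXA, hXB, hZA, hZB⟩ := exists_pair h hX hZ hZX
  have norm : ∀ {A B : GL ι F}, A ∈ R → B ∈ R → B * A = -(A * B) → X * A = A * X → X * B = B * X →
      ∃ I ∈ R, (I * I = -1 ∨ I = 1) ∧ (∀ s ∈ R, s * I = I * s) ∧ (I * A) * (I * A) = -1 := by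
    intro A B hA hB hBA hXA hXB
    rcases h.sq A hA with e | e
    · obtain ⟨I, hI, hII, hIc⟩ := hsq hX hA hXX e hXA ⟨B, hB, hXB.symm, hBA⟩ ⟨Z, hZ, hZX⟩
      refine ⟨I, hI, Or.inl hII, hIc, ?_⟩
      rw [mul_assoc, ← mul_assoc A, hIc A hA, mul_assoc, e, mul_one, hII]
    · exact ⟨1, R.one_mem, Or.inr rfl, fun s _ => by simp, by simp [e]⟩
  obtain ⟨I, hI, -, hIc, hIA⟩ := norm hA hB hBA hXA hXB
  obtain ⟨J, hJ, -, hJc, hJB⟩ := norm hB hA (by rw [hBA, neg_neg]) hXB hXA
  have cI : ∀ s ∈ R, ∀ t, s * (I * t) = I * (s * t) := fun s hs t => by rw [← mul_assoc, hIc s hs, mul_assoc]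
  have cJ : ∀ s ∈ R, ∀ t, s * (J * t) = J * (s * t) := fun s hs t => by rw [← mul_assoc, hJc s hs, mul_assoc]
  refine five_of_pairs h (R.mul_mem hI hA) (R.mul_mem hJ hB) hX hZ hIA hJB hXX hZZ ?_ hZX ?_ ?_ ?_ ?_
  · rw [mul_assoc, cI B hB, hBA, mul_assoc, cJ A hA, mul_neg, mul_neg, cI J hJ]
  · rw [cI X hX, hXA, mul_assoc]
  · rw [cJ X hX, hXB, mul_assoc]
  · rw [cI Z hZ, hZA, mul_assoc]
  · rw [cJ Z hZ, hZB, mul_assoc]

theorem exists_five_center_four (h : Ctx R) (hZ : Nat.card (Subgroup.center R) = 4) : Nonempty (Five R) := by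
  haveI := h.fin
  obtain ⟨I, hI, hII, hIc⟩ := center_four_scalar h hZ
  obtain ⟨t, ht, s, hs, hst⟩ := exists_noncentral_sq h (H := R) le_rfl (by have := h.card; omega)
  obtain ⟨Z, hZR, hZZ, hsZ⟩ : ∃ Z ∈ R, Z * Z = 1 ∧ s * Z = -(Z * s) := by
    rcases h.sq t ht with e | e
    · exact ⟨t, ht, e, hst⟩
    · exact ⟨I * t, R.mul_mem hI ht, by rw [mul_assoc, ← mul_assoc t, hIc t ht, mul_assoc, e, mul_neg, mul_neg,
        mul_one, hII, neg_neg], by rw [← mul_assoc, hIc s hs, mul_assoc, hst, mul_neg, mul_assoc]⟩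
  exact exists_five_of_involution h hZR hZZ ⟨s, hs, hsZ⟩ fun _ _ _ _ _ _ _ => ⟨I, hI, hII, hIc⟩

theorem exists_five_minus (h : Ctx R) (hm : IsOfMinusType 2 R) : Nonempty (Five R) := by
  haveI := h.fin
  classical
  have hpos : 0 < Nat.card (Subgroup.center R) := Nat.card_pos
  obtain ⟨t, ht, s, hs, hst⟩ := exists_noncentral_sq h (H := R) le_rfl (by have := h.card; omega)
  obtain ⟨Z, hZR, hZZ, hna⟩ : ∃ Z ∈ R, Z * Z = 1 ∧ ∃ s ∈ R, s * Z = -(Z * s) := by
    rcases h.sq t ht with e | e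
    · exact ⟨t, ht, e, s, hs, hst⟩
    -- `t` squares to `-1`: find a second one commuting with it
    set C := R ⊓ Subgroup.centralizer ({t} : Set (GL ι F)) with hC
    have c1 := h.card_inf_centralizer le_rfl ht (s := s) hs hst
    have hcard := h.card
    set u := fun v : GL ι F => (∀ w ∈ R, w * v = v * w) ∨ (∀ w ∈ R, w * (t * v) = (t * v) * w) with hu
    obtain ⟨v, hv, hvu⟩ : ∃ v ∈ C, ¬ u v := by
      by_contra hn
      push Not at hn
      let f : C → Bool × Subgroup.center R := fun v =>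
        if hv : ∀ w ∈ R, w * (v : GL ι F) = (v : GL ι F) * w then (true, ⟨⟨v, v.2.1⟩, (h.center_iff _).mpr hv⟩)
        else (false, ⟨⟨t * v, R.mul_mem ht v.2.1⟩, (h.center_iff _).mpr ((hn v v.2).resolve_left hv)⟩)
      have hf : Function.Injective f := by
        intro a b e
        simp only [f] at e
        split_ifs at e <;> simp only [Prod.mk.injEq, Subtype.mk.injEq, Bool.true_eq_false, Bool.false_eq_true,
          false_and, true_and, mul_right_inj] at e <;> exact Subtype.ext e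
      have := Nat.card_le_card_of_injective f hf
      rw [Nat.card_prod, Nat.card_eq_fintype_card (α := Bool), Fintype.card_bool] at this
      rw [hC] at this
      omega
    simp only [hu, not_or] at hvu
    push Not at hvu
    obtain ⟨⟨a, ha, hav⟩, ⟨b, hb, hbv⟩⟩ := hvu
    have htv : v * t = t * v := Subgroup.mem_centralizer_singleton_iff.mp hv.2
    rcases h.sq v hv.1 with e' | e'
    · exact ⟨v, hv.1, e', a, ha, (h.comm a ha v hv.1).resolve_left hav⟩
    · refine ⟨t * v, R.mul_mem ht hv.1, ?_, b, hb, (h.comm b hb _ (R.mul_mem ht hv.1)).resolve_left hbv⟩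
      rw [mul_assoc, ← mul_assoc v, htv, mul_assoc, e', mul_neg, mul_neg, mul_one, e, neg_neg]
  refine exists_five_of_involution h hZR hZZ hna fun {X A} hX hA hXX hAA hXA ⟨w, hw, hwX, hwA⟩ ⟨z, hz, hzX⟩ => ?_
  exfalso
  have n1 : ∀ {a b : GL ι F}, a * b = b * a → -a * b = b * -a := fun e => by rw [neg_mul, mul_neg, e]
  let K : Subgroup (GL ι F) := Subgroup.closure {-1, X, A}
  have hgc : ∀ a ∈ ({-1, X, A} : Set (GL ι F)), ∀ b ∈ ({-1, X, A} : Set (GL ι F)), a * b = b * a := by
    rintro a (rfl | rfl | rfl) b (rfl | rfl | rfl) <;> simp [hXA]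
  have hKR : K ≤ R := by
    rw [Subgroup.closure_le]; rintro a (rfl | rfl | rfl) <;> [exact h.negMem; exact hX; exact hA]
  haveI := Subgroup.isMulCommutative_closure hgc
  let K' : Subgroup R := K.subgroupOf R
  have hKc : IsMulCommutative K' := ⟨⟨fun a b => by
    apply Subtype.ext; apply Subtype.ext
    have := congrArg Subtype.val (mul_comm' (⟨((a : R) : GL ι F), a.2⟩ : K) ⟨((b : R) : GL ι F), b.2⟩)
    simpa using this⟩⟩
  have hK2 : ∀ x ∈ K, x * x = 1 := by
    intro x hx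
    induction hx using Subgroup.closure_induction with
    | mem a ha => rcases ha with rfl | rfl | rfl <;> simp [hXX, hAA]
    | one => simp
    | mul a b ha hb ea eb =>
      rw [mul_assoc, ← mul_assoc b, show b * a = a * b from congrArg Subtype.val (mul_comm' (⟨b, hb⟩ : K) ⟨a, ha⟩),
        mul_assoc, eb, mul_one, ea]
    | inv a _ ea => rw [← _root_.mul_inv_rev, ea, inv_one]
  have hlt := hm K' hKc fun x hx => Subtype.ext (hK2 _ hx)
  rw [Nat.card_congr (Subgroup.subgroupOfEquivOfLe hKR).toEquiv] at hlt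
  haveI : Finite K := Finite.of_injective _ (Subgroup.inclusion_injective hKR)
  have hX1 : X ∈ K := Subgroup.subset_closure (by simp)
  have hA1 : A ∈ K := Subgroup.subset_closure (by simp)
  have hn1 : (-1 : GL ι F) ∈ K := Subgroup.subset_closure (by simp)
  have e1 := h.card_inf_centralizer hKR hz hX1 (by rw [hzX, neg_neg])
  have hAc : ∃ a, a ∈ K ⊓ Subgroup.centralizer ({z} : Set (GL ι F)) ∧ a * w = -(w * a) := by
    rcases h.comm A hA z hz with e | e
    · exact ⟨A, ⟨hA1, Subgroup.mem_centralizer_singleton_iff.mpr e⟩, by rw [hwA, neg_neg]⟩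
    · refine ⟨X * A, ⟨K.mul_mem hX1 hA1, Subgroup.mem_centralizer_singleton_iff.mpr ?_⟩, ?_⟩
      · rw [mul_assoc, e, mul_neg, ← mul_assoc, show X * z = -(z * X) by rw [hzX, neg_neg], neg_mul, neg_neg,
          mul_assoc]
      · rw [← mul_assoc w X, hwX, mul_assoc, mul_assoc, hwA, mul_neg, neg_neg]
  obtain ⟨a, ha, haw⟩ := hAc
  have e3 := h.card_inf_centralizer (H := K ⊓ Subgroup.centralizer ({z} : Set (GL ι F))) (inf_le_left.trans hKR) hw ha haw
  have : 2 ≤ Nat.card ↥((K ⊓ Subgroup.centralizer ({z} : Set (GL ι F))) ⊓ Subgroup.centralizer ({w} : Set (GL ι F))) := by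
    haveI : Finite ↥((K ⊓ Subgroup.centralizer ({z} : Set (GL ι F))) ⊓ Subgroup.centralizer ({w} : Set (GL ι F))) :=
      Finite.of_injective _ (Subgroup.inclusion_injective (inf_le_left.trans inf_le_left))
    refine (Finite.one_lt_card_iff_nontrivial.mpr ((Subgroup.nontrivial_iff_ne_bot _).mpr fun eb => ?_))
    have hm1 : (-1 : GL ι F) ∈ (K ⊓ Subgroup.centralizer ({z} : Set (GL ι F))) ⊓ Subgroup.centralizer ({w} : Set (GL ι F)) :=
      ⟨⟨hn1, Subgroup.mem_centralizer_singleton_iff.mpr (by simp)⟩, Subgroup.mem_centralizer_singleton_iff.mpr (by simp)⟩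
    rw [eb, Subgroup.mem_bot] at hm1
    exact h.ne_neg 1 hm1.symm
  norm_num at hlt
  omega

end CfsgLib.SympFour
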