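import Cfsg.Agent.SympFour.Data

/-!
# Elements of prime order normalising a group of symplectic type in dimension four

The trace identity `tr y · tr y⁻¹ = [C_R(y) : Z(R)]`, the triviality of primes above five, transvections, and
fixed involutions for groups of minus type.
-/

set_option autoImplicit false
set_option linter.unusedSectionVars false

namespace CfsgLib.SympFour

open Matrix Cfsg.Geo

variable {ι : Type} [Fintype ι] [DecidableEq ι] {F : Type*} [Field F] {R : Subgroup (GL ι F)}

/-- Fixed points of conjugation by an element of prime order. -/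
theorem card_fixed_modEq {G : Type*} [Group G] {H : Subgroup G} [Finite H] {y : G} {r : ℕ} [Fact r.Prime]
    (hyr : y ^ r = 1) (hH : ∀ t ∈ H, y * t * y⁻¹ ∈ H) :
    Nat.card ↥(H ⊓ Subgroup.centralizer ({y} : Set G)) ≡ Nat.card H [MOD r] := by
  classical
  let φ : H → H := fun s => ⟨y * s * y⁻¹, hH _ s.2⟩
  have hφ : ∀ (k : ℕ) (s : H), ((φ^[k] s : H) : G) = y ^ k * s * (y ^ k)⁻¹ := by
    intro k
    induction k with
    | zero => intro s; simp
    | succ k ih =>
      intro s
      rw [Function.iterate_succ_apply', show ((φ (φ^[k] s) : H) : G) = y * (φ^[k] s : H) * y⁻¹ from rfl,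
        ih, pow_succ']
      group
  haveI := Fintype.ofFinite H
  have hφr : (show Function.End H from φ) ^ r ^ 1 = 1 := by
    funext s
    refine Subtype.ext ?_
    rw [pow_one, hom_coe_pow (fun g : Function.End H => (g : H → H)) rfl (fun _ _ => rfl)]
    rw [show ((φ^[r]) s : G) = y ^ r * s * (y ^ r)⁻¹ from hφ r s, hyr]
    simp
    rfl
  have hmod := Equiv.Perm.card_fixedPoints_modEq hφr
  have e : Function.fixedPoints (show Function.End H from φ) ≃ ↥(H ⊓ Subgroup.centralizer ({y} : Set G)) :=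
    { toFun := fun s => ⟨s.1.1, s.1.2, Subgroup.mem_centralizer_singleton_iff.mpr
        (mul_inv_eq_iff_eq_mul.mp (congrArg Subtype.val s.2.eq)).symm⟩
      invFun := fun t => ⟨⟨t.1, t.2.1⟩, Subtype.ext (mul_inv_eq_iff_eq_mul.mpr
        (Subgroup.mem_centralizer_singleton_iff.mp t.2.2).symm)⟩
      left_inv := fun s => rfl
      right_inv := fun t => rfl }
  rw [← Nat.card_congr e, Nat.card_eq_fintype_card, Nat.card_eq_fintype_card]
  exact hmod.symm

theorem Ctx.scalar_sq (h : Ctx R) {t : GL ι F} (ht : t ∈ R) {c : F} (hc : (t : Matrix ι ι F) = c • 1) :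
    c ^ 4 = 1 := by
  haveI : Nonempty ι := Fintype.card_pos_iff.mp (by rw [h.card4]; norm_num)
  obtain ⟨i⟩ := (inferInstance : Nonempty ι)
  have e2 : ((t * t : GL ι F) : Matrix ι ι F) = (c * c) • 1 := by
    rw [Units.val_mul, hc, Matrix.smul_mul, Matrix.one_mul, smul_smul]
  rcases h.sq t ht with e | e <;> rw [e] at e2 <;> have := congrFun (congrFun e2 i) i <;> simp at this <;>
    first | linear_combination (-(c * c) - 1) * this | linear_combination (-(c * c) + 1) * this

/-- The centre is the set of scalar elements. -/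
theorem Ctx.mem_centralizer_of_scalar (h : Ctx R) {t : GL ι F} {c : F} (hc : (t : Matrix ι ι F) = c • 1)
    (s : GL ι F) : s * t = t * s := Units.ext (by rw [Units.val_mul, Units.val_mul, hc]; simp)

theorem Ctx.card_center_le_inf_centralizer (h : Ctx R) (y : GL ι F) :
    Nat.card (Subgroup.center R) ∣ Nat.card ↥(R ⊓ Subgroup.centralizer ({y} : Set (GL ι F))) := by
  rw [← Subgroup.card_map_of_injective R.subtype_injective]
  refine Subgroup.card_dvd_of_le ?_
  rintro _ ⟨z, hz, rfl⟩
  obtain ⟨c, hc⟩ := CfsgLib.SympFour.scalar_of_commute h.absIrred (M := ((z : GL ι F) : Matrix ι ι F))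
    fun t ht => by rw [← Units.val_mul, ← Units.val_mul, (h.center_iff z).mp hz t ht]
  exact ⟨z.2, Subgroup.mem_centralizer_singleton_iff.mpr (h.mem_centralizer_of_scalar hc y).symm⟩

/-- A scalar commutator with an element of odd prime order is trivial. -/
theorem Ctx.commutes_of_scalar (h : Ctx R) {y t : GL ι F} {r : ℕ} [Fact r.Prime] (hr2 : r ≠ 2) (hyr : y ^ r = 1)
    (hs : t * y * t⁻¹ * y⁻¹ ∈ R) {c : F} (hc : ((t * y * t⁻¹ * y⁻¹ : GL ι F) : Matrix ι ι F) = c • 1) :
    t * y = y * t := by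
  haveI : Nonempty ι := Fintype.card_pos_iff.mp (by rw [h.card4]; norm_num)
  obtain ⟨i⟩ := (inferInstance : Nonempty ι)
  set s := t * y * t⁻¹ * y⁻¹ with hsd
  have hcomm : ∀ u : GL ι F, u * s = s * u := h.mem_centralizer_of_scalar hc
  have e : t * y * t⁻¹ = s * y := by rw [hsd]; group
  have epow : (t * y * t⁻¹) ^ r = s ^ r * y ^ r := by
    rw [e]; exact (show Commute s y from (hcomm y).symm).mul_pow r
  rw [conj_pow, hyr, mul_one, mul_inv_cancel, mul_one] at epow
  have hcr : c ^ r = 1 := by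
    have e3 := congrArg (fun g : GL ι F => (g : Matrix ι ι F) i i) epow.symm
    simpa [hc, smul_pow] using e3
  have hc4 := h.scalar_sq hs hc
  have hc1 : c = 1 := by
    have h1 := pow_gcd_eq_one.2 ⟨hcr, hc4⟩
    have : Nat.Coprime r 4 := by
      rw [show (4 : ℕ) = 2 ^ 2 by norm_num]
      exact Nat.Coprime.pow_right 2 ((Nat.coprime_primes Fact.out Nat.prime_two).mpr hr2)
    rwa [this.gcd_eq_one, pow_one] at h1
  have hs1 : s = 1 := Units.ext (by rw [hc, hc1, one_smul, Units.val_one])
  rw [hsd, mul_inv_eq_one, mul_inv_eq_iff_eq_mul] at hs1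
  exact hs1

theorem card_center_ne_zero (h : Ctx R) (hz : Nat.card (Subgroup.center R) = 2 ∨ Nat.card (Subgroup.center R) = 4) :
    ((Nat.card (Subgroup.center R) : ℕ) : F) ≠ 0 := by
  rcases hz with e | e <;> rw [e] <;> push_cast
  · exact h.two
  · rw [show (4 : F) = 2 * 2 by norm_num]; exact mul_ne_zero h.two h.two

/-- The centraliser index and the trace identity. -/
theorem Ctx.fixedIndex (h : Ctx R) (hz : Nat.card (Subgroup.center R) = 2 ∨ Nat.card (Subgroup.center R) = 4)
    {y : GL ι F} (hy : y ∈ subgroupNormalizer R) {r : ℕ} [Fact r.Prime] (hr2 : r ≠ 2) (hyr : y ^ r = 1) :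
    ∃ j ≤ 4, Nat.card ↥(R ⊓ Subgroup.centralizer ({y} : Set (GL ι F))) = 2 ^ j * Nat.card (Subgroup.center R) ∧
      2 ^ j ≡ 16 [MOD r] ∧ (y : Matrix ι ι F).trace * ((y⁻¹ : GL ι F) : Matrix ι ι F).trace = ((2 ^ j : ℕ) : F) ∧
      (j = 4 → ∃ c : F, (y : Matrix ι ι F) = c • 1) := by
  classical
  haveI := h.fin
  haveI := Fintype.ofFinite R
  set z := Nat.card (Subgroup.center R) with hzdef
  set C := R ⊓ Subgroup.centralizer ({y} : Set (GL ι F)) with hC
  have hzpos : 0 < z := Nat.card_pos
  obtain ⟨m, hm⟩ := h.card_center_le_inf_centralizer y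
  have hdiv : Nat.card C ∣ 16 * z := h.card ▸ Subgroup.card_dvd_of_le inf_le_left
  rw [hm, mul_comm 16 z] at hdiv
  obtain ⟨j, hj, rfl⟩ := (Nat.dvd_prime_pow Nat.prime_two).mp
    (show m ∣ 2 ^ 4 by simpa using Nat.dvd_of_mul_dvd_mul_left hzpos hdiv)
  rw [mul_comm] at hm
  have hN : ∀ t ∈ R, y * t * y⁻¹ ∈ R := fun t ht => (Subgroup.mem_normalizer_iff.mp hy t).mp ht
  refine ⟨j, hj, hm, ?_, ?_, fun hj4 => ?_⟩
  · have := card_fixed_modEq hyr hN
    rw [hm, h.card] at this
    refine Nat.ModEq.cancel_right_of_coprime ?_ this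
    rcases hz with e | e <;> rw [← hzdef, e]
    · exact (Nat.coprime_primes Fact.out Nat.prime_two).mpr hr2
    · rw [show (4 : ℕ) = 2 ^ 2 by norm_num]
      exact Nat.Coprime.pow_right 2 ((Nat.coprime_primes Fact.out Nat.prime_two).mpr hr2)
  · let S : Matrix ι ι F :=
      ∑ t : R, (((t : GL ι F) * y * (t : GL ι F)⁻¹ : GL ι F) : Matrix ι ι F)
    obtain ⟨c, hS⟩ : ∃ c : F, S = c • 1 := by
      refine CfsgLib.SympFour.scalar_of_commute h.absIrred fun u hu => ?_
      have e : ((u : GL ι F) : Matrix ι ι F) * S * ((u⁻¹ : GL ι F) : Matrix ι ι F) = S := by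
        simp only [S, Finset.mul_sum, Finset.sum_mul]
        refine Fintype.sum_equiv (Equiv.mulLeft (⟨u, hu⟩ : R)) _ _ fun t => ?_
        simp only [Equiv.coe_mulLeft, Subgroup.coe_mul, _root_.mul_inv_rev, Units.val_mul, mul_assoc]
      conv_lhs => rw [← e]
      rw [mul_assoc, ← Units.val_mul, inv_mul_cancel, Units.val_one, mul_one]
    have htr : (Fintype.card R : F) * (y : Matrix ι ι F).trace = c * 4 := by
      have := congrArg Matrix.trace hS
      simp only [S, Matrix.trace_sum, Matrix.trace_smul, Matrix.trace_one, h.card4] at this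
      rw [Finset.sum_congr rfl (fun t _ => by
        rw [Units.val_mul, Units.val_mul, Matrix.trace_units_conj])] at this
      simpa using this
    have hs : ∀ t : R, (t : GL ι F) * y * (t : GL ι F)⁻¹ * y⁻¹ ∈ R := fun t => by
      rw [show (t : GL ι F) * y * (t : GL ι F)⁻¹ * y⁻¹ = (t : GL ι F) * (y * (t : GL ι F)⁻¹ * y⁻¹) by group]
      exact R.mul_mem t.2 (hN _ (R.inv_mem t.2))
    have hterm : ∀ t : R, (((t : GL ι F) * y * (t : GL ι F)⁻¹ * y⁻¹ : GL ι F) : Matrix ι ι F).trace =
        if (t : GL ι F) ∈ C then 4 else 0 := by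
      intro t
      split_ifs with hmem
      · have e := Subgroup.mem_centralizer_singleton_iff.mp hmem.2
        rw [e, mul_inv_cancel_right, mul_inv_cancel, Units.val_one, Matrix.trace_one, h.card4]
        simp
      · rcases h.scalar_or_anti (hs t) with ⟨d, hd⟩ | ⟨u, -, hu⟩
        · exact absurd ⟨t.2, Subgroup.mem_centralizer_singleton_iff.mpr (h.commutes_of_scalar hr2 hyr (hs t) hd)⟩ hmem
        · exact trace_zero_of_anti h.two hu
    have hsum : (4 : F) * (Nat.card C : F) = c * ((y⁻¹ : GL ι F) : Matrix ι ι F).trace := by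
      have e1 : ∑ t : R, (((t : GL ι F) * y * (t : GL ι F)⁻¹ * y⁻¹ : GL ι F) : Matrix ι ι F).trace =
          c * ((y⁻¹ : GL ι F) : Matrix ι ι F).trace := by
        rw [← smul_eq_mul, ← Matrix.trace_smul, show c • ((y⁻¹ : GL ι F) : Matrix ι ι F) =
          S * ((y⁻¹ : GL ι F) : Matrix ι ι F) by rw [hS, Matrix.smul_mul, one_mul], Finset.sum_mul,
          Matrix.trace_sum]
        exact Finset.sum_congr rfl fun t _ => by rw [Units.val_mul]
      rw [← e1, Finset.sum_congr rfl fun t _ => hterm t, Finset.sum_ite, Finset.sum_const_zero, add_zero,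
        Finset.sum_const, nsmul_eq_mul, mul_comm]
      congr 1
      rw [← Fintype.card_subtype, ← Nat.card_eq_fintype_card]
      exact congrArg (Nat.cast (R := F)) (Nat.card_congr
        ⟨fun t => ⟨⟨t.1, t.2.1⟩, t.2⟩, fun t => ⟨t.1.1, t.2⟩, fun t => rfl, fun t => rfl⟩)
    rw [← Nat.card_eq_fintype_card, h.card, ← hzdef] at htr
    rw [hm, ← hzdef] at hsum
    simp only [Nat.cast_mul, Nat.cast_pow, Nat.cast_ofNat] at htr hsum ⊢
    have h16 : (16 : F) * (z : F) ≠ 0 := mul_ne_zero (by
      rw [show (16 : F) = 2 ^ 4 by norm_num]; exact pow_ne_zero _ h.two) (card_center_ne_zero h hz)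
    refine mul_left_cancel₀ h16 ?_
    linear_combination ((y⁻¹ : GL ι F) : Matrix ι ι F).trace * htr - (4 : F) * hsum
  · subst hj4
    have hCR : C = R := Subgroup.eq_of_le_of_card_ge inf_le_left (by rw [hm, h.card]; norm_num)
    refine CfsgLib.SympFour.scalar_of_commute h.absIrred fun t ht => ?_
    rw [← hCR] at ht
    rw [← Units.val_mul, ← Units.val_mul, Subgroup.mem_centralizer_singleton_iff.mp ht.2]

/-- Primes above five act trivially. -/
theorem Ctx.scalar_of_seven_le (h : Ctx R) (hz : Nat.card (Subgroup.center R) = 2 ∨ Nat.card (Subgroup.center R) = 4)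
    {y : GL ι F} (hy : y ∈ subgroupNormalizer R) {r : ℕ} [Fact r.Prime] (hr7 : 7 ≤ r) (hyr : y ^ r = 1) :
    ∃ c : F, (y : Matrix ι ι F) = c • 1 := by
  haveI := h.fin
  obtain ⟨j, hj, hcard, hmod, -, hsc⟩ := h.fixedIndex hz hy (by omega) hyr
  refine hsc ?_
  by_contra hj4
  have hjle : 2 ^ j ≤ 16 := (Nat.pow_le_pow_right (by norm_num) hj).trans (by norm_num)
  have hd := (Nat.modEq_iff_dvd' hjle).mp hmod
  have hr := (Fact.out : r.Prime)
  have hle := Nat.le_of_dvd (by
    have : 2 ^ j < 16 := lt_of_lt_of_le (Nat.pow_lt_pow_right (by norm_num) (show j < 4 by omega)) (by norm_num)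
    omega) hd
  obtain ⟨rfl, rfl⟩ : j = 1 ∧ r = 7 := by
    have : r ≤ 16 := le_trans hle (Nat.sub_le _ _)
    interval_cases j <;> interval_cases r <;> first | omega | (norm_num at hd; done) | (norm_num at hr; done) | norm_num
  -- the fixed subgroup has index two over the centre
  set C := R ⊓ Subgroup.centralizer ({y} : Set (GL ι F)) with hC
  set z := Nat.card (Subgroup.center R) with hzdef
  obtain ⟨v, hv, s, hs, hsv⟩ := exists_noncentral_sq h (H := C) inf_le_left (by omega)
  set H := R ⊓ Subgroup.centralizer ({v} : Set (GL ι F)) with hH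
  have h2 := h.card_inf_centralizer le_rfl hv.1 hs hsv
  have hyv : y * v = v * y := (Subgroup.mem_centralizer_singleton_iff.mp hv.2).symm
  have hCH : C ≤ H := by
    haveI : Finite C := Finite.of_injective _ (Subgroup.inclusion_injective (inf_le_left : C ≤ R))
    set K := C ⊓ Subgroup.centralizer ({v} : Set (GL ι F)) with hK
    haveI : Finite K := Finite.of_injective _ (Subgroup.inclusion_injective (inf_le_left : K ≤ C))
    have hvK : v ∈ K := ⟨hv, Subgroup.mem_centralizer_singleton_iff.mpr rfl⟩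
    have hZK : (Subgroup.center R).map R.subtype ≤ K := by
      rintro _ ⟨u, hu, rfl⟩
      obtain ⟨c, hc⟩ := CfsgLib.SympFour.scalar_of_commute h.absIrred (M := ((u : GL ι F) : Matrix ι ι F))
        fun t ht => by rw [← Units.val_mul, ← Units.val_mul, (h.center_iff u).mp hu t ht]
      exact ⟨⟨u.2, Subgroup.mem_centralizer_singleton_iff.mpr (h.mem_centralizer_of_scalar hc y).symm⟩,
        Subgroup.mem_centralizer_singleton_iff.mpr (h.mem_centralizer_of_scalar hc v).symm⟩
    have hd1 := Subgroup.card_dvd_of_le hZK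
    rw [Subgroup.card_map_of_injective R.subtype_injective, ← hzdef] at hd1
    have hd2 := Subgroup.card_dvd_of_le (inf_le_left : K ≤ C)
    rw [hcard] at hd2
    have hlt : z < Nat.card K := by
      refine lt_of_le_of_ne (Nat.le_of_dvd Nat.card_pos hd1) fun e => ?_
      have heq := Subgroup.eq_of_le_of_card_ge hZK (by
        rw [Subgroup.card_map_of_injective R.subtype_injective, ← hzdef, e])
      rw [← heq] at hvK
      obtain ⟨u, hu, rfl⟩ := hvK
      exact h.ne_neg ((u : GL ι F) * s) ((by rw [← (h.center_iff u).mp hu s hs] : (u : GL ι F) * s = s * u).trans hsv)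
    obtain ⟨a, ha⟩ := hd1
    have heq : K = C := Subgroup.eq_of_le_of_card_ge inf_le_left (by
      rw [hcard]
      rw [ha] at hd2 hlt ⊢
      have : a ≤ 2 := by
        have := Nat.le_of_dvd (by omega) hd2
        by_contra hc
        have : 3 * z ≤ z * a := by rw [mul_comm]; exact Nat.mul_le_mul_left _ (by omega)
        omega
      interval_cases a <;> omega)
    intro t ht
    rw [← heq] at ht
    exact ⟨ht.1.1, ht.2⟩
  have hN : ∀ t ∈ H, y * t * y⁻¹ ∈ H := fun t ht => by
    refine ⟨(Subgroup.mem_normalizer_iff.mp hy t).mp ht.1, Subgroup.mem_centralizer_singleton_iff.mpr ?_⟩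
    have e := Subgroup.mem_centralizer_singleton_iff.mp ht.2
    have e' : y⁻¹ * v = v * y⁻¹ := by
      rw [eq_mul_inv_iff_mul_eq, mul_assoc, ← hyv, inv_mul_cancel_left]
    rw [mul_assoc, e', ← mul_assoc, mul_assoc y t v, e, ← mul_assoc y v t, hyv]
    simp only [mul_assoc]
  haveI : Finite H := Finite.of_injective _ (Subgroup.inclusion_injective (inf_le_left : H ≤ R))
  have hmod' := card_fixed_modEq hyr hN
  rw [show H ⊓ Subgroup.centralizer ({y} : Set (GL ι F)) = C from
    le_antisymm (fun t ht => ⟨ht.1.1, ht.2⟩) (fun t ht => ⟨hCH ht, ht.2⟩), hcard] at hmod'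
  have hHz : Nat.card H = 8 * z := by have := h.card; rw [← hH] at h2; omega
  rw [hHz] at hmod'
  rcases hz with e | e <;> rw [e] at hmod' <;> simp [Nat.ModEq] at hmod'

/-- A transvection. -/
def IsTransv (x : GL ι F) : Prop :=
  ∃ u φ : ι → F, φ ⬝ᵥ u = 0 ∧ (x : Matrix ι ι F) = 1 + Matrix.vecMulVec u φ

theorem IsTransv.conj {x : GL ι F} (hx : IsTransv x) (g : GL ι F) : IsTransv (g⁻¹ * x * g) := by
  obtain ⟨u, φ, h0, e⟩ := hx
  refine ⟨((g⁻¹ : GL ι F) : Matrix ι ι F) *ᵥ u, φ ᵥ* (g : Matrix ι ι F), ?_, ?_⟩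
  · rw [← Matrix.dotProduct_mulVec, Matrix.mulVec_mulVec, ← Units.val_mul, mul_inv_cancel, Units.val_one,
      Matrix.one_mulVec, h0]
  · rw [Units.val_mul, Units.val_mul, e, mul_add, mul_one, add_mul, ← Units.val_mul, inv_mul_cancel, Units.val_one,
      Matrix.mul_vecMulVec, Matrix.vecMulVec_mul]

/-- A transvection normalising `R` is trivial. -/
theorem Ctx.eq_one_of_transvection (h : Ctx R) {y : GL ι F} (hy : y ∈ subgroupNormalizer R) (ht : IsTransv y) :
    ∃ c : F, (y : Matrix ι ι F) = c • 1 := by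
  classical
  haveI : Nonempty ι := Fintype.card_pos_iff.mp (by rw [h.card4]; norm_num)
  obtain ⟨u, φ, h0, hyM⟩ := ht
  have hyi : ((y⁻¹ : GL ι F) : Matrix ι ι F) = 1 - Matrix.vecMulVec u φ := by
    refine Units.inv_eq_of_mul_eq_one_right ?_
    rw [hyM, mul_sub, mul_one, add_mul, one_mul, Matrix.vecMulVec_mul_vecMulVec, h0, zero_smul]
    simp
  refine CfsgLib.SympFour.scalar_of_commute h.absIrred fun t ht => ?_
  suffices e : t * y = y * t by rw [← Units.val_mul, ← Units.val_mul, e]
  set s := t * y * t⁻¹ * y⁻¹ with hsd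
  have hsR : s ∈ R := by
    rw [hsd, show t * y * t⁻¹ * y⁻¹ = t * (y * t⁻¹ * y⁻¹) by group]
    exact R.mul_mem ht ((Subgroup.mem_normalizer_iff.mp hy _).mp (R.inv_mem ht))
  set u' := (t : Matrix ι ι F) *ᵥ u with hu'
  set φ' := φ ᵥ* ((t⁻¹ : GL ι F) : Matrix ι ι F) with hφ'
  have h0' : φ' ⬝ᵥ u' = 0 := by
    rw [hu', hφ', ← Matrix.dotProduct_mulVec, Matrix.mulVec_mulVec, ← Units.val_mul, inv_mul_cancel,
      Units.val_one, Matrix.one_mulVec, h0]
  have hsM : (s : Matrix ι ι F) = (1 + Matrix.vecMulVec u' φ') * (1 - Matrix.vecMulVec u φ) := by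
    rw [hsd, Units.val_mul, hyi, Units.val_mul, Units.val_mul, hyM, mul_add, mul_one, add_mul, ← Units.val_mul,
      mul_inv_cancel, Units.val_one, Matrix.mul_vecMulVec, Matrix.vecMulVec_mul]
  have hsv : ∀ w, (s : Matrix ι ι F) *ᵥ w =
      (w - (φ ⬝ᵥ w) • u) + (φ' ⬝ᵥ (w - (φ ⬝ᵥ w) • u)) • u' := fun w => by
    rw [hsM, ← Matrix.mulVec_mulVec, Matrix.sub_mulVec, Matrix.one_mulVec, Matrix.vecMulVec_mulVec,
      Matrix.add_mulVec, Matrix.one_mulVec, Matrix.vecMulVec_mulVec, op_smul_eq_smul, op_smul_eq_smul]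
  rcases h.scalar_or_anti hsR with ⟨c, hc⟩ | ⟨v, -, hv⟩
  · obtain ⟨w, hw0, hw1, hw2⟩ : ∃ w : ι → F, w ≠ 0 ∧ φ ⬝ᵥ w = 0 ∧ φ' ⬝ᵥ w = 0 := by
      let L : (ι → F) →ₗ[F] (Fin 2 → F) := Matrix.toLin' (Matrix.of ![φ, φ'])
      have hne : LinearMap.ker L ≠ ⊥ := LinearMap.ker_ne_bot_of_finrank_lt (by simp [h.card4])
      obtain ⟨w, hw, hw0⟩ := Submodule.exists_mem_ne_zero_of_ne_bot hne
      rw [LinearMap.mem_ker] at hw
      have e0 := congrFun hw 0
      have e1 := congrFun hw 1
      simp [L, Matrix.mulVec] at e0 e1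
      exact ⟨w, hw0, e0, e1⟩
    have e := hsv w
    rw [hw1, zero_smul, sub_zero, hw2, zero_smul, add_zero, hc, Matrix.smul_mulVec, Matrix.one_mulVec] at e
    have hc1 : c = 1 := by
      by_contra hc1
      refine hw0 ((smul_eq_zero.mp (show (c - 1) • w = 0 by rw [sub_smul, one_smul, e, sub_self])).resolve_left ?_)
      exact sub_ne_zero.mpr hc1
    have hs1 : s = 1 := Units.ext (by rw [hc, hc1, one_smul, Units.val_one])
    rw [hsd, mul_inv_eq_one, mul_inv_eq_iff_eq_mul] at hs1
    exact hs1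
  · exfalso
    set α := φ' ⬝ᵥ u with hα
    set β := φ ⬝ᵥ u' with hβ
    have htr : (4 : F) - α * β = 0 := by
      rw [← trace_zero_of_anti h.two hv, hsM, mul_sub, mul_one, add_mul, one_mul, Matrix.trace_sub,
        Matrix.trace_add, Matrix.trace_add, Matrix.vecMulVec_mul_vecMulVec, Matrix.trace_one, h.card4,
        Matrix.trace_vecMulVec, Matrix.trace_vecMulVec, Matrix.trace_vecMulVec]
      simp only [smul_dotProduct, dotProduct_smul, smul_eq_mul, dotProduct_comm u φ, dotProduct_comm u' φ',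
        dotProduct_comm u' φ, h0, h0', hα, hβ]
      push_cast
      ring
    have hsu : (s : Matrix ι ι F) *ᵥ u = u + α • u' := by rw [hsv, h0, zero_smul, sub_zero, hα]
    have hsu' : (s : Matrix ι ι F) *ᵥ u' = u' - β • u - (α * β) • u' := by
      rw [hsv, ← hβ, dotProduct_sub, dotProduct_smul, h0', ← hα, smul_eq_mul, mul_comm β α, zero_sub, neg_smul]
      abel
    obtain ⟨ε, hε⟩ : ∃ ε : F, (s : Matrix ι ι F) * (s : Matrix ι ι F) = ε • 1 := by
      rcases h.sq s hsR with e | e
      · exact ⟨1, by rw [← Units.val_mul, e, one_smul]; rfl⟩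
      · exact ⟨-1, by rw [← Units.val_mul, e, neg_one_smul]; rfl⟩
    have e := congrArg (fun M : Matrix ι ι F => M *ᵥ u) hε
    simp only [← Matrix.mulVec_mulVec, hsu, Matrix.mulVec_add, Matrix.mulVec_smul, hsu', Matrix.smul_mulVec,
      Matrix.one_mulVec] at e
    have e2 : (-(2 : F) * α) • u' = (ε - 1 + α * β) • u := by
      linear_combination (norm := module) e - htr • (α • u')
    have hα0 : α ≠ 0 := fun h0a => by
      rw [h0a, zero_mul, sub_zero] at htr
      exact mul_ne_zero h.two h.two (by linear_combination htr)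
    have hb : (-(2 : F) * α) * β = 0 := by
      have := congrArg (fun w => φ ⬝ᵥ w) e2
      simpa [dotProduct_smul, h0, hβ] using this
    have hβ0 : β ≠ 0 := fun h0b => by
      rw [h0b, mul_zero, sub_zero] at htr
      exact mul_ne_zero h.two h.two (by linear_combination htr)
    exact mul_ne_zero (mul_ne_zero (neg_ne_zero.mpr h.two) hα0) hβ0 hb

/-- With centre of order two the non-central involutions are the `± g k`. -/
theorem Five.involution_eq (h : Ctx R) (D : Five R) (hz : Nat.card (Subgroup.center R) = 2) {t : GL ι F}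
    (ht : t ∈ R) (htt : t * t = 1) (hna : ∃ s ∈ R, s * t = -(t * s)) : ∃ k, t = D.g k ∨ t = -D.g k := by
  classical
  haveI := h.fin
  haveI : Nonempty ι := Fintype.card_pos_iff.mp (by rw [h.card4]; norm_num)
  let σ : Bool → GL ι F := fun b => if b then -1 else 1
  have hσc : ∀ b u, σ b * u = u * σ b := fun b u => by cases b <;> simp [σ]
  have hσm : ∀ a b, σ a * σ b = σ (xor a b) := fun a b => by cases a <;> cases b <;> simp [σ]
  have hσ1 : ∀ a, σ a = 1 → a = false := fun a ha => by
    cases a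
    · rfl
    · exact absurd (show (1 : GL ι F) = -1 from ha.symm) (h.ne_neg 1)
  have hex : ∀ k, ∃ b, t * D.g k = σ b * (D.g k * t) := fun k => by
    rcases h.comm t ht _ (D.mem k) with e | e
    · exact ⟨false, by simp [σ, e]⟩
    · exact ⟨true, by simp [σ, e]⟩
  choose f hf using hex
  -- a scalar element squares to one
  have hsc : ∀ u ∈ R, (∀ k, u * D.g k = D.g k * u) → (u = 1 ∨ u = -1) := by
    intro u hu huc
    obtain ⟨c, hc⟩ := D.scalar_of_commute h (M := (u : Matrix ι ι F)) fun k => by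
      rw [← Units.val_mul, ← Units.val_mul, huc k]
    have hcen : (⟨u, hu⟩ : R) ∈ Subgroup.center R := (h.center_iff _).mpr fun s _ => h.mem_centralizer_of_scalar hc s
    have : (⟨⟨u, hu⟩, hcen⟩ : Subgroup.center R) ^ Nat.card (Subgroup.center R) = 1 := pow_card_eq_one'
    rw [hz, pow_two] at this
    have e : u * u = 1 := congrArg (fun z : Subgroup.center R => ((z : R) : GL ι F)) this
    refine scalarGL_sq ?_ hc
    obtain ⟨i⟩ := (inferInstance : Nonempty ι)
    have e' : (u : Matrix ι ι F) * u = 1 := congrArg Units.val e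
    have := congrFun (congrFun e' i) i
    simpa [hc] using this
  -- parity
  set P := D.g 0 * (D.g 1 * (D.g 2 * (D.g 3 * D.g 4))) with hP
  have hPc : ∀ k, P * D.g k = D.g k * P := by
    have r : ∀ i j : Fin 5, j < i → ∀ w, D.g i * (D.g j * w) = -(D.g j * (D.g i * w)) := fun i j hij w => by
      rw [← mul_assoc, D.anti i j hij.ne', neg_mul, mul_assoc]
    have r' : ∀ i j : Fin 5, j < i → D.g i * D.g j = -(D.g j * D.g i) := fun i j hij => D.anti i j hij.ne'
    have sqr : ∀ i w, D.g i * (D.g i * w) = w := fun i w => by rw [← mul_assoc, D.sq, one_mul]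
    intro k
    fin_cases k <;>
      simp [hP, mul_assoc, sqr, D.sq, r 1 0 (by decide), r 2 0 (by decide), r 3 0 (by decide), r 4 0 (by decide),
        r 2 1 (by decide), r 3 1 (by decide), r 4 1 (by decide), r 3 2 (by decide), r 4 2 (by decide),
        r 4 3 (by decide), r' 1 0 (by decide), r' 2 0 (by decide), r' 3 0 (by decide), r' 4 0 (by decide),
        r' 2 1 (by decide), r' 3 1 (by decide), r' 4 1 (by decide), r' 3 2 (by decide), r' 4 2 (by decide),
        r' 4 3 (by decide)]
  have hPR : P ∈ R := R.mul_mem (D.mem 0) (R.mul_mem (D.mem 1) (R.mul_mem (D.mem 2) (R.mul_mem (D.mem 3) (D.mem 4))))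
  have step : ∀ (b : Bool) (k : Fin 5) (w : GL ι F), t * w = σ b * (w * t) →
      t * (D.g k * w) = σ (xor (f k) b) * (D.g k * w * t) := by
    intro b k w hw
    rw [← mul_assoc, hf k, mul_assoc (σ (f k)), mul_assoc (D.g k), hw, ← mul_assoc (D.g k), ← hσc b (D.g k),
      ← hσm, mul_assoc (σ (f k)), mul_assoc (D.g k), mul_assoc (σ b)]
  have h5 := step _ 0 _ (step _ 1 _ (step _ 2 _ (step _ 3 _ (hf 4))))
  rw [← hP] at h5
  have hpar : xor (f 0) (xor (f 1) (xor (f 2) (xor (f 3) (f 4)))) = false := by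
    rcases hsc P hPR hPc with e | e <;> rw [e] at h5 <;> refine hσ1 _ ?_
    · simpa using h5
    · simpa using h5
  have cases' : ∀ f : Fin 5 → Bool, xor (f 0) (xor (f 1) (xor (f 2) (xor (f 3) (f 4)))) = false →
      (∀ k, f k = false) ∨ (∃ k, ∀ l, f l = decide (l ≠ k)) ∨
        ∃ i j, i ≠ j ∧ ∀ l, f l = decide (l = i ∨ l = j) := by
    decide
  have hg : ∀ k l, D.g k * D.g l = σ (decide (l ≠ k)) * (D.g l * D.g k) := fun k l => by
    by_cases e : l = k
    · simp [σ, e]
    · simp [σ, e, D.anti k l (Ne.symm e)]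
  have shift : ∀ (u : GL ι F) (a b : Bool) (w : GL ι F) (l : Fin 5), u * D.g l = σ a * (D.g l * u) →
      w * D.g l = σ b * (D.g l * w) → u * w * D.g l = σ (xor a b) * (D.g l * (u * w)) := by
    intro u a b w l hu hw
    rw [mul_assoc, hw, ← mul_assoc u, ← hσc b u, mul_assoc (σ b), ← mul_assoc u, hu, ← hσm, mul_assoc, mul_assoc,
      ← mul_assoc (σ a), ← mul_assoc (σ b), hσc a (σ b)]
    simp only [mul_assoc]
  rcases cases' f hpar with hall | ⟨k, hk⟩ | ⟨i, j, hij, hl⟩
  · exfalso
    obtain ⟨c, hc⟩ := D.scalar_of_commute h (M := (t : Matrix ι ι F)) fun l => by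
      have := hf l
      rw [hall l] at this
      rw [← Units.val_mul, ← Units.val_mul, this]
      simp [σ]
    obtain ⟨s, -, hs⟩ := hna
    exact h.ne_neg _ ((h.mem_centralizer_of_scalar hc s).symm.trans hs)
  · refine ⟨k, ?_⟩
    have hu := hsc (t * D.g k) (R.mul_mem ht (D.mem k)) fun l => by
      rw [shift t _ _ (D.g k) l (hf l) (hg k l), hk l]
      simp [σ]
    rcases hu with e | e
    · left; rw [← mul_one t, ← D.sq k, ← mul_assoc, e, one_mul]
    · right; rw [← mul_one t, ← D.sq k, ← mul_assoc, e, neg_one_mul]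
  · exfalso
    have hu := hsc (t * (D.g i * D.g j)) (R.mul_mem ht (R.mul_mem (D.mem i) (D.mem j))) fun l => by
      rw [shift t _ _ _ l (hf l) (shift (D.g i) _ _ (D.g j) l (hg i l) (hg j l)), hl l]
      have key : ∀ i j l : Fin 5, i ≠ j →
          xor (decide (l = i ∨ l = j)) (xor (decide (l ≠ i)) (decide (l ≠ j))) = false := by decide
      rw [key i j l hij]
      simp [σ]
    have hw : (D.g i * D.g j) * (D.g i * D.g j) = -1 := by
      calc (D.g i * D.g j) * (D.g i * D.g j) = D.g i * (D.g j * D.g i) * D.g j := by simp only [mul_assoc]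
        _ = D.g i * -(D.g i * D.g j) * D.g j := by rw [D.anti j i hij.symm]
        _ = -((D.g i * D.g i) * (D.g j * D.g j)) := by simp [mul_assoc]
        _ = -1 := by rw [D.sq, D.sq, mul_one]
    have et : t = -(t * (D.g i * D.g j)) * (D.g i * D.g j) := by
      rw [neg_mul, mul_assoc, hw, mul_neg_one, neg_neg]
    apply h.ne_neg (1 : GL ι F)
    have : t * t = -1 := by
      rcases hu with e | e <;> rw [e] at et <;> rw [et] <;> simp [hw]
    exact htt.symm.trans this

/-- An element of order three normalising a group of minus type fixes an involution. -/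
theorem Ctx.fixedIndex_pos (h : Ctx R) (D : Five R) (hz : Nat.card (Subgroup.center R) = 2) {y : GL ι F}
    (hy : y ∈ subgroupNormalizer R) (hyr : y ^ 3 = 1) :
    Nat.card (Subgroup.center R) < Nat.card ↥(R ⊓ Subgroup.centralizer ({y} : Set (GL ι F))) := by
  classical
  haveI := h.fin
  haveI : Fact (Nat.Prime 3) := ⟨Nat.prime_three⟩
  haveI : Finite ↥(R ⊓ Subgroup.centralizer ({y} : Set (GL ι F))) :=
    Finite.of_injective _ (Subgroup.inclusion_injective (inf_le_left : R ⊓ _ ≤ R))
  let I := {t : R // (t : GL ι F) * t = 1 ∧ ∃ s ∈ R, s * (t : GL ι F) = -(t * s)}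
  haveI : Fintype I := Fintype.ofFinite I
  have hN : ∀ t ∈ R, y * t * y⁻¹ ∈ R := fun t ht => (Subgroup.mem_normalizer_iff.mp hy t).mp ht
  let φ : I → I := fun t => ⟨⟨y * t.1 * y⁻¹, hN _ t.1.2⟩, by
    obtain ⟨htt, s, hs, hst⟩ := t.2
    refine ⟨?_, y * s * y⁻¹, hN s hs, ?_⟩
    · show y * _ * y⁻¹ * (y * _ * y⁻¹) = 1
      rw [conj_mul, htt, mul_one, mul_inv_cancel]
    · show y * s * y⁻¹ * (y * _ * y⁻¹) = -(y * _ * y⁻¹ * (y * s * y⁻¹))
      rw [conj_mul, conj_mul, hst, mul_neg, neg_mul]⟩
  have hφ : ∀ (k : ℕ) (s : I), (((φ^[k] s : I) : R) : GL ι F) = y ^ k * (s.1 : GL ι F) * (y ^ k)⁻¹ := by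
    intro k
    induction k with
    | zero => intro s; simp
    | succ k ih =>
      intro s
      rw [Function.iterate_succ_apply', show (((φ (φ^[k] s) : I) : R) : GL ι F) = y * _ * y⁻¹ from rfl, ih, pow_succ']
      group
  have hφr : (show Function.End I from φ) ^ 3 ^ 1 = 1 := by
    funext s
    refine Subtype.ext (Subtype.ext ?_)
    rw [pow_one, hom_coe_pow (fun g : Function.End I => (g : I → I)) rfl (fun _ _ => rfl)]
    rw [show (((φ^[3]) s).1 : GL ι F) = y ^ 3 * (s.1 : GL ι F) * (y ^ 3)⁻¹ from hφ 3 s, hyr]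
    simp
    rfl
  have hmod := Equiv.Perm.card_fixedPoints_modEq hφr
  have hI : Fintype.card I = 10 := by
    let ev : Fin 5 × Bool → I := fun p => ⟨⟨if p.2 then -D.g p.1 else D.g p.1, by
      split_ifs; exacts [h.mem_neg (D.mem _), D.mem _]⟩, by
        obtain ⟨k, b⟩ := p
        have hk : (k + 1 : Fin 5) ≠ k := by revert k; decide
        refine ⟨by cases b <;> simp [D.sq], D.g (k + 1), D.mem _, ?_⟩
        cases b <;> simp [D.anti _ _ hk]⟩
    have hbij : Function.Bijective ev := by
      refine ⟨?_, fun t => ?_⟩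
      · rintro ⟨k, b⟩ ⟨l, c⟩ e
        have e' : (if b then -D.g k else D.g k) = if c then -D.g l else D.g l :=
          congrArg (fun t : I => ((t : R) : GL ι F)) e
        have hkl : k = l := by
          by_contra hne
          -- commuting with `g k` distinguishes them
          have h1 : (if b then -D.g k else D.g k) * D.g k = D.g k * (if b then -D.g k else D.g k) := by
            cases b <;> simp
          rw [e'] at h1
          have h2 : D.g l * D.g k = D.g k * D.g l := by cases c <;> simpa using h1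
          exact h.ne_neg (D.g k * D.g l) (h2.symm.trans (D.anti l k (Ne.symm hne)))
        subst hkl
        cases b <;> cases c <;> simp only [if_true, if_false, Bool.false_eq_true] at e' <;>
          first | rfl | exact absurd e' (h.ne_neg _) | exact absurd e'.symm (h.ne_neg _)
      · obtain ⟨⟨t, ht⟩, htt, hna⟩ := t
        obtain ⟨k, hk⟩ := D.involution_eq h hz ht htt hna
        rcases hk with rfl | rfl
        · exact ⟨(k, false), rfl⟩
        · exact ⟨(k, true), rfl⟩
    rw [← Fintype.card_of_bijective hbij]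
    rfl
  rw [hI] at hmod
  obtain ⟨⟨t, hfix⟩⟩ : Nonempty (Function.fixedPoints (show Function.End I from φ)) := by
    by_contra hne
    rw [not_nonempty_iff] at hne
    rw [Fintype.card_eq_zero] at hmod
    simp [Nat.ModEq] at hmod
  set C := R ⊓ Subgroup.centralizer ({y} : Set (GL ι F)) with hC
  have htC : (t.1 : GL ι F) ∈ C := ⟨t.1.2, Subgroup.mem_centralizer_singleton_iff.mpr
    (mul_inv_eq_iff_eq_mul.mp (congrArg (fun s : I => ((s : R) : GL ι F)) hfix.eq)).symm⟩
  refine lt_of_le_of_ne (Nat.le_of_dvd Nat.card_pos (h.card_center_le_inf_centralizer y)) fun e => ?_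
  have hle : (Subgroup.center R).map R.subtype ≤ C := by
    rintro _ ⟨z, hz', rfl⟩
    obtain ⟨c, hc⟩ := CfsgLib.SympFour.scalar_of_commute h.absIrred (M := ((z : GL ι F) : Matrix ι ι F))
      fun s hs => by rw [← Units.val_mul, ← Units.val_mul, (h.center_iff z).mp hz' s hs]
    exact ⟨z.2, Subgroup.mem_centralizer_singleton_iff.mpr (h.mem_centralizer_of_scalar hc y).symm⟩
  have heq := Subgroup.eq_of_le_of_card_ge hle (by
    rw [Subgroup.card_map_of_injective R.subtype_injective, e])
  rw [← heq] at htC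
  obtain ⟨u, hu, hut⟩ := htC
  obtain ⟨-, s, hs, hst⟩ := t.2
  have := (h.center_iff u).mp hu s hs
  rw [show (u : GL ι F) = (t.1 : GL ι F) from hut, hst] at this
  exact h.ne_neg _ this.symm

end CfsgLib.SympFour
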